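import Cfsg.Agent.H493.PGCount
import Cfsg.Agent.S2238
import Cfsg.Agent.S1159
import Cfsg.Agent.OddCyclic.ClaimC.SzIso

/-!
# Suzuki groups and small Ree groups: at most four components
-/

set_option autoImplicit false

namespace Cfsg.Agent.H493.PG

open Subgroup

universe u

theorem few_sz {F : Type*} [Field F] [Fintype F] {m : ℕ} (hm : 1 ≤ m) (hF : Fintype.card F = 2 ^ (2 * m + 1)) :
    Few 5 ↥(Cfsg.Sz F m) := by
  let N : Fin 3 → ℕ := ![2 ^ (2 * m + 1) - 1, 2 ^ (2 * m + 1) + 2 ^ (m + 1) + 1, 2 ^ (2 * m + 1) - 2 ^ (m + 1) + 1]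
  refine few_of_cover (k := 4) (by norm_num) (Fin.cons (fun r => r = 2)
    (fun i r => r ∣ N i ∧ ∃ U : Subgroup ↥(Cfsg.Sz F m), IsCyclic U ∧ Nat.card U = N i)) ?_ ?_
  · intro r hr hrG
    by_cases h2 : r = 2
    · exact ⟨0, h2⟩
    have := Fact.mk hr
    obtain ⟨x, hx⟩ := exists_prime_orderOf_dvd_card' r hrG
    have hx1 : x ≠ 1 := by
      rintro rfl
      rw [orderOf_one] at hx
      exact hr.one_lt.ne hx
    obtain ⟨U, ⟨hU, hxU⟩, -⟩ := Cfsg.Agent.S2238.result hm hF x hx1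
    rcases hU with ⟨P, rfl⟩ | ⟨hc, hN⟩
    · exfalso
      obtain ⟨k, hk⟩ := P.isPGroup' ⟨x, hxU⟩
      have h3 : x ^ 2 ^ k = 1 := congrArg Subtype.val hk
      have h4 : r ∣ 2 ^ k := hx ▸ orderOf_dvd_of_pow_eq_one h3
      exact h2 ((Nat.prime_dvd_prime_iff_eq hr Nat.prime_two).1 (hr.dvd_of_dvd_pow h4))
    · have h5 : r ∣ Nat.card U := by
        rw [← hx, ← Subgroup.orderOf_mk x hxU]
        exact orderOf_dvd_natCard _
      rcases hN with hN | hN | hN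
      · exact ⟨1, h5.trans (dvd_of_eq hN), U, hc, hN⟩
      · exact ⟨2, h5.trans (dvd_of_eq hN), U, hc, hN⟩
      · exact ⟨3, h5.trans (dvd_of_eq hN), U, hc, hN⟩
  · intro i
    refine Fin.cases ?_ (fun i => ?_) i
    · intro r s _ _ _ _ h1 h2
      have h1 : r = 2 := h1
      have h2 : s = 2 := h2
      rw [h1, h2]
      exact Conn.refl 2
    · rintro r s hr hs _ _ ⟨h1, U, hU, hc⟩ ⟨h2, -⟩
      exact conn_of_cyclic hU hr hs (by rw [hc]; exact h1) (by rw [hc]; exact h2)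

/-- **Suzuki groups** -/
theorem few_isoSuzuki {G : Type*} [Group G] (hG : Lie.IsoSuzuki G) : Few 5 G := by
  obtain ⟨F, _, _, m, hm, hF, ⟨e⟩⟩ := hG
  obtain ⟨e'⟩ := Cfsg.Agent.OddCyclic.ClaimC.SzIso.iso hm hF
  exact Few.congr (e'.trans e.symm) (few_sz hm hF)

/-- **small Ree groups** -/
theorem few_isoRee {G : Type*} [Group G] (hG : Lie.IsoRee G) : Few 4 G := by
  obtain ⟨K, _, _, m, hm, hK, ⟨e⟩⟩ := hG
  refine Few.congr e.symm ?_
  have : Finite ↥(Cfsg.Lie.twistedG2 K (3 ^ m)) := inferInstance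
  have h1 := fun d => Cfsg.Agent.S1159.result hm hK d
  let N : Fin 4 → ℕ := ![3 ^ (2 * m + 1) - 1, (3 ^ (2 * m + 1) + 1) / 2, 3 ^ (2 * m + 1) - 3 ^ (m + 1) + 1,
    3 ^ (2 * m + 1) + 3 ^ (m + 1) + 1]
  have h4 : 2 ∣ (3 ^ (2 * m + 1) + 1) / 2 := by
    have h5 : 3 ^ (2 * m + 1) % 4 = 3 := by
      rw [pow_succ, pow_mul, Nat.mul_mod, Nat.pow_mod]
      norm_num
    omega
  have hN : ∀ i, ∃ g : ↥(Cfsg.Lie.twistedG2 K (3 ^ m)), orderOf g = N i := by
    intro i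
    rw [h1]
    fin_cases i
    · exact Or.inr (Or.inr (Or.inl dvd_rfl))
    · exact Or.inr (Or.inr (Or.inr (Or.inl dvd_rfl)))
    · exact Or.inr (Or.inr (Or.inr (Or.inr (Or.inl dvd_rfl))))
    · exact Or.inr (Or.inr (Or.inr (Or.inr (Or.inr dvd_rfl))))
  have h23 : Conn ↥(Cfsg.Lie.twistedG2 K (3 ^ m)) 2 3 := by
    obtain ⟨g, hg⟩ := (h1 6).2 (Or.inl dvd_rfl)
    exact conn_of_dvd_orderOf (g := g) Nat.prime_two Nat.prime_three (by rw [hg]; norm_num) (by rw [hg]; norm_num)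
  have h2 : 2 ∣ 3 ^ (2 * m + 1) - 1 := by
    have : 3 - 1 ∣ 3 ^ (2 * m + 1) - 1 ^ (2 * m + 1) := Nat.sub_dvd_pow_sub_pow 3 1 (2 * m + 1)
    simpa using this
  -- classes: connected to 2; the divisors of the last two numbers
  refine few_of_cover (k := 3) (by norm_num) (Fin.cons (fun r => Conn ↥(Cfsg.Lie.twistedG2 K (3 ^ m)) r 2)
    (fun (i : Fin 2) r => r ∣ N i.succ.succ)) ?_ ?_
  · intro r hr hrG
    have := Fact.mk hr
    obtain ⟨x, hx⟩ := exists_prime_orderOf_dvd_card' r hrG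
    rcases (h1 r).1 ⟨x, hx⟩ with h | h | h | h | h | h
    · refine ⟨0, ?_⟩
      have h' : r ∣ 2 * 3 := h
      rcases (Nat.Prime.dvd_mul hr).1 h' with h' | h'
      · rw [(Nat.prime_dvd_prime_iff_eq hr Nat.prime_two).1 h']
        exact Conn.refl 2
      · rw [(Nat.prime_dvd_prime_iff_eq hr Nat.prime_three).1 h']
        exact h23.symm
    · refine ⟨0, ?_⟩
      have h' : r ∣ 3 ^ 2 := h
      rw [(Nat.prime_dvd_prime_iff_eq hr Nat.prime_three).1 (hr.dvd_of_dvd_pow h')]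
      exact h23.symm
    · refine ⟨0, ?_⟩
      obtain ⟨g, hg⟩ := hN 0
      exact conn_of_dvd_orderOf (g := g) hr Nat.prime_two (by rw [hg]; exact h) (by rw [hg]; exact h2)
    · refine ⟨0, ?_⟩
      obtain ⟨g, hg⟩ := hN 1
      exact conn_of_dvd_orderOf (g := g) hr Nat.prime_two (by rw [hg]; exact h) (by rw [hg]; exact h4)
    · exact ⟨1, h⟩
    · exact ⟨2, h⟩
  · intro i
    refine Fin.cases ?_ (fun i => ?_) i
    · intro r s _ _ _ _ h1 h2
      exact Conn.trans h1 (Conn.symm h2)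
    · intro r s hr hs _ _ h1 h2
      obtain ⟨g, hg⟩ := hN i.succ.succ
      exact conn_of_dvd_orderOf (g := g) hr hs (by rw [hg]; exact h1) (by rw [hg]; exact h2)

end Cfsg.Agent.H493.PG
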