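import Cfsg.Agent.H493.PGCyc
import Cfsg.Agent.S1092
import Cfsg.Agent.S1093

/-!
# Adjacency inside one cyclotomic torus, type F4
-/

set_option autoImplicit false

namespace Cfsg.Agent.H493.PGF4

open Cfsg.Agent.H129.WData Cfsg.Agent.ChevalleyStructure.CoxeterGeomTypes Cfsg.Agent.Nodes.RGDChev
open Cfsg.Lie Cfsg.Lie.ChevalleyDatum
open Cfsg.Agent.H493.PGTorus Cfsg.Agent.H493.PGCyc

universe u

/-- the Cartan matrix -/
def Am : Mat 4 := ![![2, -1, 0, 0], ![-1, 2, -2, 0], ![0, -1, 2, -1], ![0, 0, -1, 2]]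

theorem hA : ∀ i j, Am i j = cartanOf chevF4 4 i j := by decide +kernel

theorem hp : IsType chevF4 4 CoxeterMatrix.F₄ := by simp

theorem finW : Finite CoxeterMatrix.F₄.Group := by
  have hW : Nat.card CoxeterMatrix.F₄.Group = 1152 :=
    Cfsg.Agent.S1092.result (⟨4, CoxeterMatrix.F₄⟩, 1152) (by simp)
  exact Nat.finite_of_card_ne_zero (by rw [hW]; norm_num)

/-- partial products of an element with characteristic polynomial divisible by the cyclotomic polynomial 8 -/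
def chain8 : List (Fin 4 × Mat 4) := [
    (2, ![![1, 2, 2, 1], ![-1, -1, -1, -1], ![0, 0, 0, 1], ![2, 2, 1, 0]]),
    (0, ![![1, 2, 1, 1], ![-1, -1, -1, -1], ![0, 0, 1, 1], ![2, 2, 1, 0]]),
    (3, ![![1, 2, 1, 1], ![0, -1, -1, -1], ![0, 0, 1, 1], ![0, 2, 1, 0]]),
    (1, ![![1, 2, 1, 0], ![0, -1, -1, 0], ![0, 0, 1, 0], ![0, 2, 1, 1]]),
    (2, ![![1, 1, 1, 0], ![0, -1, -1, 0], ![0, 2, 1, 0], ![0, 0, 1, 1]]),
    (1, ![![1, 1, 0, 0], ![0, -1, 0, 0], ![0, 2, 1, 0], ![0, 0, 0, 1]])]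

theorem chain8_ok : ChainOK Am chain8 := by decide +kernel

/-- coefficients of the eigenvector -/
def V8 : Fin 4 → Fin 4 → ℤ := ![![-1, -1, 0, 0], ![0, -1, -1, -1], ![-1, -1, -1, 0], ![0, 1, 1, 0]]

/-- the functional -/
def U8 : Fin 4 → ℤ := ![0, -1, 1, 0]

theorem eig8 : EigOK (hd chain8) c8 V8 U8 := by decide +kernel

theorem conn8 {F : Type u} [Field F] [Finite F] {r s : ℕ} (hr : r.Prime) (hs : s.Prime)
    (h1 : (r : ℤ) ∣ pv c8 (Nat.card F)) (h2 : (s : ℤ) ∣ pv c8 (Nat.card F)) :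
    PG.Conn ↥(chevF4.group F) r s := by
  have := finW
  exact conn_of_eig hp CoxeterMatrix.F₄.toCoxeterSystem H129.TorusChar.invC_F4 one_ne_zero
    (chain_rep hp CoxeterMatrix.F₄.toCoxeterSystem hA chain8_ok) eig8 eig8 hr hs (fun h => hr.one_lt.ne' (Nat.dvd_one.1 h)) (fun h => hs.one_lt.ne' (Nat.dvd_one.1 h))
    h1 h2

/-- partial products of an element with characteristic polynomial divisible by the cyclotomic polynomial 12 -/
def chain12 : List (Fin 4 × Mat 4) := [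
    (0, ![![0, 1, 0, 0], ![1, 1, 1, 1], ![-2, -2, -1, -1], ![2, 2, 1, 0]]),
    (3, ![![1, 1, 0, 0], ![0, 1, 1, 1], ![0, -2, -1, -1], ![0, 2, 1, 0]]),
    (1, ![![1, 1, 0, 0], ![0, 1, 1, 0], ![0, -2, -1, 0], ![0, 2, 1, 1]]),
    (2, ![![1, 0, 0, 0], ![0, 1, 1, 0], ![0, 0, -1, 0], ![0, 0, 1, 1]])]

theorem chain12_ok : ChainOK Am chain12 := by decide +kernel

/-- coefficients of the eigenvector -/
def V12 : Fin 4 → Fin 4 → ℤ := ![![1, 1, 1, 0], ![0, 1, 1, 1], ![0, 1, 0, 0], ![1, 0, 0, 0]]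

/-- the functional -/
def U12 : Fin 4 → ℤ := ![0, 0, 1, -1]

theorem eig12 : EigOK (hd chain12) c12 V12 U12 := by decide +kernel

theorem conn12 {F : Type u} [Field F] [Finite F] {r s : ℕ} (hr : r.Prime) (hs : s.Prime)
    (h1 : (r : ℤ) ∣ pv c12 (Nat.card F)) (h2 : (s : ℤ) ∣ pv c12 (Nat.card F)) :
    PG.Conn ↥(chevF4.group F) r s := by
  have := finW
  exact conn_of_eig hp CoxeterMatrix.F₄.toCoxeterSystem H129.TorusChar.invC_F4 one_ne_zero
    (chain_rep hp CoxeterMatrix.F₄.toCoxeterSystem hA chain12_ok) eig12 eig12 hr hs (fun h => hr.one_lt.ne' (Nat.dvd_one.1 h)) (fun h => hs.one_lt.ne' (Nat.dvd_one.1 h))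
    h1 h2

end Cfsg.Agent.H493.PGF4
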