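import Cfsg.Agent.H493.F4Tor
import Cfsg.Agent.H493.PGF4
import Cfsg.Agent.H493.PGCount
import Cfsg.Agent.ChevalleyStructure.TwF4.WeylDih
import Cfsg.Agent.S1068

/-!
# The prime graph of `²F₄(q)`, `q = 2^(2m+1) > 2`: at most three components
-/

set_option autoImplicit false
set_option linter.unusedSimpArgs false
set_option linter.unusedTactic false
set_option linter.unreachableTactic false
set_option linter.unnecessarySeqFocus false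

namespace Cfsg.Agent.H493.PGF4T

open Cfsg Cfsg.Lie Cfsg.Lie.ChevalleyDatum Cfsg.Agent.H129.WData Cfsg.Agent.H493.F4Tor Cfsg.Agent.H493.PG
open Cfsg.Agent.ChevalleyStructure Cfsg.Agent.ChevalleyStructure.CoxeterGeomTypes

universe u

/-- the Cartan matrix -/
def Am : Mat 4 := PGF4.Am

theorem hA : ∀ i j, Am i j = cartanOf chevF4 4 i j := PGF4.hA

/-! ### the factors of the order, `q = 2b²` -/

def f1 (b : ℤ) : ℤ := 2 * b ^ 2 - 1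
def f2 (b : ℤ) : ℤ := 2 * b ^ 2 + 1
def fp (b : ℤ) : ℤ := 2 * b ^ 2 + 2 * b + 1
def fm (b : ℤ) : ℤ := 2 * b ^ 2 - 2 * b + 1
def f6 (b : ℤ) : ℤ := 4 * b ^ 4 - 2 * b ^ 2 + 1
def fP (b : ℤ) : ℤ := 4 * b ^ 4 + 4 * b ^ 3 + 2 * b ^ 2 + 2 * b + 1
def fM (b : ℤ) : ℤ := 4 * b ^ 4 - 4 * b ^ 3 + 2 * b ^ 2 - 2 * b + 1

/-- the certificate of a functional -/
structure Cert (Th : Mat 4) (F : ℤ → ℤ) (L : ℤ → Fin 4 → ℤ) (U : Fin 4 → ℤ) (G : ℤ → Fin 4 → ℤ) (c : ℤ)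
    (H : ℤ → ℤ) : Prop where
  id : ∀ b j, ∑ i, Th j i * L b i - (eN j : ℤ) * b * L b j = F b * G b j
  un : ∀ b, ∑ i, U i * L b i = c + F b * H b
  one : c = 1 ∨ c = -1
  odd : ∀ b, ∃ z, F b = 2 * z + 1

section

variable {Th : Mat 4} {F : ℤ → ℤ} {L : ℤ → Fin 4 → ℤ} {U : Fin 4 → ℤ} {G : ℤ → Fin 4 → ℤ} {c : ℤ} {H : ℤ → ℤ}
  (h : Cert Th F L U G c H) {m r : ℕ} (hr : r.Prime) (hd : (r : ℤ) ∣ F (2 ^ m))

include h hd

theorem Cert.hL (j : Fin 4) : (r : ℤ) ∣ ∑ i, Th j i * L (2 ^ m) i - ((eN j * 2 ^ m : ℕ) : ℤ) * L (2 ^ m) j := by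
  have h1 := h.id (2 ^ m) j
  push_cast
  rw [h1]
  exact hd.mul_right _

include hr

theorem Cert.hU : ¬ (r : ℤ) ∣ ∑ i, U i * L (2 ^ m) i := by
  rw [h.un]
  intro h1
  have h2 : (r : ℤ) ∣ c := (Int.dvd_add_left (hd.mul_right _)).1 h1
  have h3 : (r : ℤ) ∣ 1 := by
    rcases h.one with h0 | h0
    · rwa [h0] at h2
    · rw [h0] at h2
      exact (Int.dvd_neg).1 h2
  have h8 := Int.natCast_dvd_natCast.mp (by simpa using h3 : (r : ℤ) ∣ ((1 : ℕ) : ℤ))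
  exact hr.one_lt.ne' (Nat.dvd_one.mp h8)

theorem Cert.ne_two : r ≠ 2 := by
  rintro rfl
  obtain ⟨z, hz⟩ := h.odd (2 ^ m)
  rw [hz] at hd
  have := (Int.dvd_add_right (dvd_mul_right (2 : ℤ) z)).1 (by exact_mod_cast hd)
  omega

end

theorem conn_cert {K : Type u} [Field K] [Fintype K] {m : ℕ} (hK : Fintype.card K = 2 ^ (2 * m + 1))
    {C : List (Fin 4 × Mat 4)} (hC : ChainOK Am C) {Th : Mat 4} (hTh : ∀ j, hd C (rv j) = Th j)
    {F : ℤ → ℤ} {L : ℤ → Fin 4 → ℤ} {U : Fin 4 → ℤ} {G : ℤ → Fin 4 → ℤ} {c : ℤ} {H : ℤ → ℤ}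
    (h : Cert Th F L U G c H)
    {F' : ℤ → ℤ} {L' : ℤ → Fin 4 → ℤ} {U' : Fin 4 → ℤ} {G' : ℤ → Fin 4 → ℤ} {c' : ℤ} {H' : ℤ → ℤ}
    (h' : Cert Th F' L' U' G' c' H') {r s : ℕ} (hr : r.Prime) (hs : s.Prime) (h1 : (r : ℤ) ∣ F (2 ^ m))
    (h2 : (s : ℤ) ∣ F' (2 ^ m)) : Conn ↥(twistedF4 K (2 ^ m)) r s :=
  conn_gen hK hA hC hTh hr hs (h.ne_two hr h1) (h'.ne_two hs h2) (h.hL h1) (h.hU hr h1) (h'.hL h2) (h'.hU hs h2)

/-- partial products -/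
def chainA : List (Fin 4 × Mat 4) := [
    (0, ![![-1, 0, 0, 0], ![1, 1, 0, 0], ![0, 0, 1, 0], ![0, 0, 0, 1]])]

theorem chainA_ok : ChainOK Am chainA := by decide +kernel

/-- the matrix -/
def ThA : Mat 4 := ![![0, 0, 0, 1], ![0, 0, 1, 0], ![1, 1, 0, 0], ![-1, 0, 0, 0]]

theorem hThA : ∀ j, hd chainA (rv j) = ThA j := by decide +kernel

theorem certA_f1 : Cert ThA f1 (fun b => ![-2 * b ^ 3 + b, 2 * b ^ 3, 1, 2 * b ^ 2 - 1]) ![0, 0, -1, 0]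
    (fun b => ![2 * b ^ 2 + 1, -2 * b ^ 2 - 1, 0, 0]) (-1) (fun b => 0) where
  id b j := by fin_cases j <;> simp [ThA, f1, eN, Fin.sum_univ_four] <;> ring
  un b := by (simp [f1, Fin.sum_univ_four]) <;> ring
  one := by norm_num
  odd b := ⟨b ^ 2 - 1, by unfold f1; ring⟩

theorem certA_f2 : Cert ThA f2 (fun b => ![-2 * b ^ 3 + b, 2 * b ^ 3, 1, 2 * b ^ 2 - 1]) ![0, 0, -1, 0]
    (fun b => ![2 * b ^ 2 - 1, -2 * b ^ 2 + 1, 0, 0]) (-1) (fun b => 0) where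
  id b j := by fin_cases j <;> simp [ThA, f2, eN, Fin.sum_univ_four] <;> ring
  un b := by (simp [f2, Fin.sum_univ_four]) <;> ring
  one := by norm_num
  odd b := ⟨b ^ 2, by unfold f2; ring⟩

/-- partial products -/
def chainB : List (Fin 4 × Mat 4) := [
    (2, ![![1, 1, 1, 0], ![0, 1, 0, 0], ![0, -2, -1, 0], ![0, 2, 2, 1]]),
    (1, ![![1, 1, 0, 0], ![0, 1, 1, 0], ![0, -2, -1, 0], ![0, 2, 1, 1]]),
    (2, ![![1, 0, 0, 0], ![0, 1, 1, 0], ![0, 0, -1, 0], ![0, 0, 1, 1]])]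

theorem chainB_ok : ChainOK Am chainB := by decide +kernel

/-- the matrix -/
def ThB : Mat 4 := ![![0, 2, 2, 1], ![0, -2, -1, 0], ![0, 1, 0, 0], ![1, 1, 1, 0]]

theorem hThB : ∀ j, hd chainB (rv j) = ThB j := by decide +kernel

theorem certB_f1 : Cert ThB f1 (fun b => ![-2 * b ^ 3 + b + 1, 0, 0, 4 * b ^ 3 + 2 * b ^ 2 - 1]) ![-1, 0, 0, 0]
    (fun b => ![2 * b ^ 2 + 2 * b + 1, 0, 0, -2 * b ^ 2 - 2 * b - 1]) (-1) (fun b => b) where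
  id b j := by fin_cases j <;> simp [ThB, f1, eN, Fin.sum_univ_four] <;> ring
  un b := by (simp [f1, Fin.sum_univ_four]) <;> ring
  one := by norm_num
  odd b := ⟨b ^ 2 - 1, by unfold f1; ring⟩

theorem certB_fp : Cert ThB fp (fun b => ![-2 * b ^ 3 + 2 * b + 1, 2 * b ^ 3 - b, 2 * b ^ 2 - 1, 2 * b + 1]) ![0, -1, 0, 0]
    (fun b => ![2 * b ^ 2 - 1, -2 * b ^ 2 + 1, 0, 0]) (-1) (fun b => -b + 1) where
  id b j := by fin_cases j <;> simp [ThB, fp, eN, Fin.sum_univ_four] <;> ring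
  un b := by (simp [fp, Fin.sum_univ_four]) <;> ring
  one := by norm_num
  odd b := ⟨b ^ 2 + b, by unfold fp; ring⟩

/-- partial products -/
def chainC : List (Fin 4 × Mat 4) := [
    (1, ![![1, 1, 0, 0], ![0, -1, 0, 0], ![0, 2, 1, 0], ![0, 0, 0, 1]])]

theorem chainC_ok : ChainOK Am chainC := by decide +kernel

/-- the matrix -/
def ThC : Mat 4 := ![![0, 0, 0, 1], ![0, 2, 1, 0], ![0, -1, 0, 0], ![1, 1, 0, 0]]

theorem hThC : ∀ j, hd chainC (rv j) = ThC j := by decide +kernel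

theorem certC_f1 : Cert ThC f1 (fun b => ![-b, -2 * b ^ 3 + b, 2 * b ^ 2 - 1, -2 * b ^ 2]) ![0, 0, 0, -1]
    (fun b => ![0, 2 * b ^ 2 - 2 * b + 1, 0, 0]) (1) (fun b => 1) where
  id b j := by fin_cases j <;> simp [ThC, f1, eN, Fin.sum_univ_four] <;> ring
  un b := by (simp [f1, Fin.sum_univ_four]) <;> ring
  one := by norm_num
  odd b := ⟨b ^ 2 - 1, by unfold f1; ring⟩

theorem certC_fm : Cert ThC fm (fun b => ![-b, -2 * b ^ 3 + b, 2 * b ^ 2 - 1, -2 * b ^ 2]) ![0, -1, 0, 0]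
    (fun b => ![0, 2 * b ^ 2 - 1, 0, 0]) (-1) (fun b => b + 1) where
  id b j := by fin_cases j <;> simp [ThC, fm, eN, Fin.sum_univ_four] <;> ring
  un b := by (simp [fm, Fin.sum_univ_four]) <;> ring
  one := by norm_num
  odd b := ⟨b ^ 2 - b, by unfold fm; ring⟩

/-- partial products -/
def chainD : List (Fin 4 × Mat 4) := [
    (1, ![![1, 2, 1, 0], ![0, -1, -1, 0], ![0, 2, 2, 1], ![0, -2, -1, -1]]),
    (2, ![![1, 1, 1, 0], ![0, -1, -1, 0], ![0, 2, 2, 1], ![0, 0, -1, -1]]),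
    (3, ![![1, 1, 0, 0], ![0, -1, 0, 0], ![0, 2, 1, 1], ![0, 0, 0, -1]]),
    (1, ![![1, 1, 0, 0], ![0, -1, 0, 0], ![0, 2, 1, 0], ![0, 0, 0, 1]])]

theorem chainD_ok : ChainOK Am chainD := by decide +kernel

/-- the matrix -/
def ThD : Mat 4 := ![![0, -2, -1, -1], ![0, 2, 2, 1], ![0, -1, -1, 0], ![1, 2, 1, 0]]

theorem hThD : ∀ j, hd chainD (rv j) = ThD j := by decide +kernel

theorem certD_f6 : Cert ThD f6 (fun b => ![-2 * b ^ 3 + 2 * b + 1, -b - 1, 1, -2 * b ^ 2]) ![0, 0, -1, 0]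
    (fun b => ![1, 0, 0, 0]) (-1) (fun b => 0) where
  id b j := by fin_cases j <;> simp [ThD, f6, eN, Fin.sum_univ_four] <;> ring
  un b := by (simp [f6, Fin.sum_univ_four]) <;> ring
  one := by norm_num
  odd b := ⟨2 * b ^ 4 - b ^ 2, by unfold f6; ring⟩

/-- partial products -/
def chainEp : List (Fin 4 × Mat 4) := [
    (3, ![![1, 2, 1, 0], ![-1, -3, -2, -1], ![2, 4, 3, 2], ![-2, -2, -1, -1]]),
    (1, ![![1, 2, 1, 1], ![-1, -3, -2, -1], ![2, 4, 3, 1], ![-2, -2, -1, 0]]),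
    (0, ![![1, 1, 1, 1], ![-1, -2, -2, -1], ![2, 4, 3, 1], ![-2, -2, -1, 0]]),
    (2, ![![0, 1, 1, 1], ![-1, -2, -2, -1], ![2, 4, 3, 1], ![0, -2, -1, 0]]),
    (1, ![![0, 1, 1, 1], ![-1, -2, -1, -1], ![2, 4, 2, 1], ![0, -2, -1, 0]]),
    (3, ![![0, 1, 1, 1], ![-1, -1, -1, -1], ![2, 2, 2, 1], ![0, 0, -1, 0]]),
    (2, ![![0, 1, 1, 0], ![-1, -1, -1, 0], ![2, 2, 2, 1], ![0, 0, -1, -1]]),
    (3, ![![0, 1, 0, 0], ![-1, -1, 0, 0], ![2, 2, 1, 1], ![0, 0, 0, -1]]),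
    (0, ![![0, 1, 0, 0], ![-1, -1, 0, 0], ![2, 2, 1, 0], ![0, 0, 0, 1]]),
    (1, ![![1, 1, 0, 0], ![0, -1, 0, 0], ![0, 2, 1, 0], ![0, 0, 0, 1]])]

theorem chainEp_ok : ChainOK Am chainEp := by decide +kernel

/-- the matrix -/
def ThEp : Mat 4 := ![![-2, -2, -1, -1], ![2, 4, 3, 2], ![-1, -3, -2, -1], ![1, 2, 1, 0]]

theorem hThEp : ∀ j, hd chainEp (rv j) = ThEp j := by decide +kernel

theorem certEp_fP : Cert ThEp fP (fun b => ![-2 * b ^ 3 - b - 1, b + 1, 4 * b ^ 3 + 2 * b ^ 2, -4 * b ^ 3 - 2 * b ^ 2 - 1]) ![0, 0, -1, -1]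
    (fun b => ![1, 0, -1, 1]) (1) (fun b => 0) where
  id b j := by fin_cases j <;> simp [ThEp, fP, eN, Fin.sum_univ_four] <;> ring
  un b := by (simp [fP, Fin.sum_univ_four]) <;> ring
  one := by norm_num
  odd b := ⟨2 * b ^ 4 + 2 * b ^ 3 + b ^ 2 + b, by unfold fP; ring⟩

/-- partial products -/
def chainEm : List (Fin 4 × Mat 4) := [
    (3, ![![1, 1, 0, 0], ![0, -1, 0, 0], ![0, 2, 1, 1], ![0, 0, 0, -1]]),
    (1, ![![1, 1, 0, 0], ![0, -1, 0, 0], ![0, 2, 1, 0], ![0, 0, 0, 1]])]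

theorem chainEm_ok : ChainOK Am chainEm := by decide +kernel

/-- the matrix -/
def ThEm : Mat 4 := ![![0, 0, 0, -1], ![0, 2, 1, 1], ![0, -1, 0, 0], ![1, 1, 0, 0]]

theorem hThEm : ∀ j, hd chainEm (rv j) = ThEm j := by decide +kernel

theorem certEm_fM : Cert ThEm fM (fun b => ![-2 * b ^ 3 + 2 * b ^ 2, -b, 1, -2 * b ^ 2 + 2 * b - 1]) ![0, 0, -1, 0]
    (fun b => ![1, 0, 0, 0]) (-1) (fun b => 0) where
  id b j := by fin_cases j <;> simp [ThEm, fM, eN, Fin.sum_univ_four] <;> ring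
  un b := by (simp [fM, Fin.sum_univ_four]) <;> ring
  one := by norm_num
  odd b := ⟨2 * b ^ 4 - 2 * b ^ 3 + b ^ 2 - b, by unfold fM; ring⟩

/-! ### the involution -/

section Two

open Cfsg.Agent.ChevalleyStructure.TwF4.Rel (n1)
open Cfsg.Agent.ChevalleyStructure.TwF4 Cfsg.Agent.ChevalleyStructure.TwF4.TwGen
  Cfsg.Agent.ChevalleyStructure.TwF4.Torus Cfsg.Agent.ChevalleyStructure.TwF4.NRoot
  Cfsg.Agent.ChevalleyStructure.TwF4.NStruct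

variable {K : Type u} [Field K] [Fintype K] {m : ℕ} (hK : Fintype.card K = 2 ^ (2 * m + 1))

include hK

/-- an involution commuting with a torus of order `q - 1` -/
theorem conn_two {r : ℕ} (hr : r.Prime) (h : (r : ℤ) ∣ f1 (2 ^ m)) : Conn ↥(twistedF4 K (2 ^ m)) r 2 := by
  classical
  have := Fact.mk hr
  have : CharP K 2 := F4Fixed.charP_two hK
  have hcard : Nat.card Kˣ = 2 ^ (2 * m + 1) - 1 := by
    rw [Nat.card_units, Nat.card_eq_fintype_card, hK]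
  have h1 : 1 ≤ 2 ^ (2 * m + 1) := Nat.one_le_two_pow
  have hrK : r ∣ Nat.card Kˣ := by
    rw [hcard]
    apply Int.natCast_dvd_natCast.1
    rw [Nat.cast_sub h1]
    push_cast
    have e : (2 : ℤ) ^ (2 * m + 1) - 1 = f1 (2 ^ m) := by
      unfold f1; rw [← pow_mul]; ring
    rwa [e]
  obtain ⟨t, ht⟩ := exists_prime_orderOf_dvd_card' r hrK
  let τ : Kˣ → GL chevF4.Idx K := fun t => T (tc (2 ^ m) (t ^ 2) t)
  have hmul : ∀ a b : Kˣ, τ (a * b) = τ a * τ b := by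
    intro a b
    show T _ = T _ * T _
    rw [← map_mul, tc_mul, mul_pow]
  have hone : τ 1 = 1 := by
    have := hmul 1 1
    rw [one_mul] at this
    exact (mul_eq_left.1 this.symm)
  have hpow : ∀ n : ℕ, τ t ^ n = τ (t ^ n) := by
    intro n
    induction n with
    | zero => rw [pow_zero, pow_zero, hone]
    | succ n ih => rw [pow_succ, ih, ← hmul, ← pow_succ]
  have hinj : ∀ a, τ a = 1 → a = 1 := by
    intro a ha
    have h2 : T (tc (2 ^ m) (a ^ 2) a) = (T 1 : GL chevF4.Idx K) := by rw [map_one]; exact ha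
    exact congrFun (T_injective h2) 3
  have hmem : τ t ∈ twistedF4 K (2 ^ m) := (TorusFix.T_mem_iff hK _).2 ⟨_, _, rfl⟩
  have hn1 : n1 K ∈ twistedF4 K (2 ^ m) := n1_mem _
  have hP : (n1 K : GL chevF4.Idx K) * n1 K = 1 := by
    have h2 := (mono_n1 (K := K)).mul mono_n1
    rw [WeylDih.P1_mul_self] at h2
    exact h2.eq_one
  have hn1' : (n1 K : GL chevF4.Idx K) ≠ 1 := by
    intro h0
    have h2 := (mono_n1 (K := K)).hasPerm
    rw [h0] at h2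
    have h3 := h2.unique HasPerm.one
    have h4 := congrArg Fin.val (DFunLike.congr_fun h3 (⟨24, by decide⟩ : R))
    rw [P1_val] at h4
    revert h4
    decide
  have hcomm : n1 K * τ t * (n1 K)⁻¹ = τ t := by
    show n1 K * T (tc (2 ^ m) (t ^ 2) t) * (n1 K)⁻¹ = T (tc (2 ^ m) (t ^ 2) t)
    unfold tc
    rw [n1_conj_T]
    congr 1
    funext l
    fin_cases l
    · show (t ^ 2 ^ m)⁻¹ * (t ^ 2) ^ 2 ^ m = t ^ 2 ^ m
      rw [inv_mul_eq_iff_eq_mul, ← pow_mul, ← pow_add]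
      congr 1
      ring
    · rfl
    · rfl
    · show t ^ 2 * t⁻¹ = t
      rw [pow_two, mul_inv_cancel_right]
  refine Conn.of_commute hr Nat.prime_two (x := (⟨τ t, hmem⟩ : ↥(twistedF4 K (2 ^ m)))) (y := ⟨n1 K, hn1⟩) ?_ ?_ ?_
  · apply Subtype.ext
    show τ t * n1 K = n1 K * τ t
    conv_lhs => rw [← hcomm]
    group
  · rw [Subgroup.orderOf_mk]
    have h2 : orderOf (τ t) = r := by
      refine orderOf_eq_prime ?_ ?_
      · rw [hpow, ← ht, pow_orderOf_eq_one, hone]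
      · intro h0
        rw [hinj t h0, orderOf_one] at ht
        exact hr.one_lt.ne ht
    rw [h2]
  · rw [Subgroup.orderOf_mk]
    have h2 : orderOf (n1 K : GL chevF4.Idx K) = 2 := by
      refine orderOf_eq_prime ?_ hn1'
      rw [pow_two, hP]
    rw [h2]

end Two

/-! ### the classes -/

/-- divisors of the order -/
theorem cover {m r : ℕ} (hr : r.Prime)
    (h : r ∣ (2 ^ (2 * m + 1)) ^ 12 * (2 ^ (2 * m + 1) - 1) * ((2 ^ (2 * m + 1)) ^ 3 + 1) *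
      ((2 ^ (2 * m + 1)) ^ 4 - 1) * ((2 ^ (2 * m + 1)) ^ 6 + 1)) :
    (r = 2 ∨ (r : ℤ) ∣ f1 (2 ^ m) ∨ (r : ℤ) ∣ f2 (2 ^ m) ∨ (r : ℤ) ∣ fp (2 ^ m) ∨ (r : ℤ) ∣ fm (2 ^ m) ∨
      (r : ℤ) ∣ f6 (2 ^ m)) ∨ (r : ℤ) ∣ fP (2 ^ m) ∨ (r : ℤ) ∣ fM (2 ^ m) := by
  have h1 : 1 ≤ 2 ^ (2 * m + 1) := Nat.one_le_two_pow
  have h4 : 1 ≤ (2 ^ (2 * m + 1)) ^ 4 := Nat.one_le_pow _ _ h1
  have hr' : Prime (r : ℤ) := Nat.prime_iff_prime_int.1 hr
  have h2 := Int.natCast_dvd_natCast.2 h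
  rw [Nat.cast_mul, Nat.cast_mul, Nat.cast_mul, Nat.cast_mul, Nat.cast_sub h1, Nat.cast_sub h4] at h2
  push_cast at h2
  have hb : (2 : ℤ) ^ (2 * m + 1) = 2 * (2 ^ m) ^ 2 := by rw [← pow_mul]; ring
  rw [hb] at h2
  by_cases h0 : (r : ℤ) ∣ (2 * (2 ^ m) ^ 2) ^ 12
  · have h3 := hr'.dvd_of_dvd_pow h0
    have h5 : (r : ℤ) ∣ 2 := by
      rcases hr'.dvd_or_dvd h3 with h3 | h3
      · exact h3
      · exact hr'.dvd_of_dvd_pow (hr'.dvd_of_dvd_pow h3)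
    exact Or.inl (Or.inl ((Nat.prime_dvd_prime_iff_eq hr Nat.prime_two).1 (Int.natCast_dvd_natCast.1 (by simpa using h5))))
  generalize ((2 : ℤ) ^ m) = b at *
  have e : (2 * b ^ 2) ^ 12 * (2 * b ^ 2 - 1) * ((2 * b ^ 2) ^ 3 + 1) * ((2 * b ^ 2) ^ 4 - 1) * ((2 * b ^ 2) ^ 6 + 1) =
      (2 * b ^ 2) ^ 12 * f1 b * (f2 b * f6 b) * (f1 b * f2 b * fp b * fm b) * (fp b * fm b * fP b * fM b) := by
    unfold f1 f2 f6 fp fm fP fM; ring
  rw [e] at h2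
  simp only [hr'.dvd_mul] at h2
  tauto

theorem three_dvd (m : ℕ) : (3 : ℤ) ∣ f2 (2 ^ m) ∧ (3 : ℤ) ∣ f6 (2 ^ m) := by
  have h1 : (3 : ℤ) ∣ (2 ^ m) ^ 2 - 1 := by
    have e : ((2 : ℤ) ^ m) ^ 2 - 1 = 4 ^ m - 1 ^ m := by rw [← pow_mul, mul_comm, pow_mul]; norm_num
    rw [e]
    exact (by norm_num : (3 : ℤ) ∣ 4 - 1).trans (sub_dvd_pow_sub_pow 4 1 m)
  obtain ⟨z, hz⟩ := h1
  have h2 : ((2 : ℤ) ^ m) ^ 2 = 3 * z + 1 := by linarith
  constructor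
  · exact ⟨2 * z + 1, by unfold f2; rw [h2]; ring⟩
  · refine ⟨12 * z ^ 2 + 6 * z + 1, ?_⟩
    unfold f6
    have e : ((2 : ℤ) ^ m) ^ 4 = (((2 : ℤ) ^ m) ^ 2) ^ 2 := by ring
    rw [e, h2]; ring

section

variable {K : Type u} [Field K] [Fintype K] {m : ℕ} (hm : 1 ≤ m) (hK : Fintype.card K = 2 ^ (2 * m + 1))

include hm

theorem exists_u : ∃ u : ℕ, u.Prime ∧ (u : ℤ) ∣ f1 (2 ^ m) := by
  have h1 : 2 ^ (2 * m + 1) - 1 ≠ 1 := by
    have : 2 ^ 3 ≤ 2 ^ (2 * m + 1) := Nat.pow_le_pow_right (by norm_num) (by omega)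
    omega
  obtain ⟨u, hu, hd⟩ := Nat.exists_prime_and_dvd h1
  refine ⟨u, hu, ?_⟩
  have h2 := Int.natCast_dvd_natCast.2 hd
  rw [Nat.cast_sub Nat.one_le_two_pow] at h2
  push_cast at h2
  have e : (2 : ℤ) ^ (2 * m + 1) - 1 = f1 (2 ^ m) := by
    unfold f1; rw [← pow_mul]; ring
  rwa [e] at h2

include hK

theorem conn_main {r : ℕ} (hr : r.Prime) (h : r = 2 ∨ (r : ℤ) ∣ f1 (2 ^ m) ∨ (r : ℤ) ∣ f2 (2 ^ m) ∨
    (r : ℤ) ∣ fp (2 ^ m) ∨ (r : ℤ) ∣ fm (2 ^ m) ∨ (r : ℤ) ∣ f6 (2 ^ m)) : Conn ↥(twistedF4 K (2 ^ m)) r 2 := by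
  obtain ⟨u, hu, hu1⟩ := exists_u hm
  have hu2 := conn_two hK hu hu1
  have hf2 : ∀ {r : ℕ}, r.Prime → (r : ℤ) ∣ f2 (2 ^ m) → Conn ↥(twistedF4 K (2 ^ m)) r 2 := fun hr h =>
    (conn_cert hK chainA_ok hThA certA_f2 certA_f1 hr hu h hu1).trans hu2
  rcases h with rfl | h | h | h | h | h
  · exact Conn.refl _
  · exact conn_two hK hr h
  · exact hf2 hr h
  · exact (conn_cert hK chainB_ok hThB certB_fp certB_f1 hr hu h hu1).trans hu2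
  · exact (conn_cert hK chainC_ok hThC certC_fm certC_f1 hr hu h hu1).trans hu2
  · have h3 := three_dvd m
    exact (conn_cert hK chainD_ok hThD certD_f6 certD_f6 hr Nat.prime_three h h3.2).trans
      (hf2 Nat.prime_three h3.1)

theorem few_tw : Few 4 ↥(twistedF4 K (2 ^ m)) := by
  let C : Fin 3 → ℕ → Prop := ![fun r => r = 2 ∨ (r : ℤ) ∣ f1 (2 ^ m) ∨ (r : ℤ) ∣ f2 (2 ^ m) ∨
    (r : ℤ) ∣ fp (2 ^ m) ∨ (r : ℤ) ∣ fm (2 ^ m) ∨ (r : ℤ) ∣ f6 (2 ^ m),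
    fun r => (r : ℤ) ∣ fP (2 ^ m), fun r => (r : ℤ) ∣ fM (2 ^ m)]
  refine few_of_cover (k := 3) (by norm_num) C ?_ ?_
  · intro r hr hrG
    rw [Cfsg.Agent.S1068.result hK] at hrG
    rcases cover hr hrG with h | h | h
    · exact ⟨0, h⟩
    · exact ⟨1, h⟩
    · exact ⟨2, h⟩
  · intro i r s hr hs _ _ h1 h2
    fin_cases i
    · exact (conn_main hm hK hr h1).trans (conn_main hm hK hs h2).symm
    · exact conn_cert hK chainEp_ok hThEp certEp_fP certEp_fP hr hs h1 h2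
    · exact conn_cert hK chainEm_ok hThEm certEm_fM certEm_fM hr hs h1 h2

end

/-- **The prime graph of `²F₄(q)` has at most three components.** -/
theorem few_iso2F4 {G : Type*} [Group G] (hG : Iso2F4 G) : Few 4 G := by
  obtain ⟨K, _, _, m, hm, hK, ⟨e⟩⟩ := hG
  exact Few.congr e.symm (few_tw hm hK)

end Cfsg.Agent.H493.PGF4T
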