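import Mathlib

/-!
# A Klein four-group above a normal subgroup of odd order

`false_of_klein`: `R` a normal subgroup of odd order of the finite group `G`, `r` a prime dividing `|R|`, no element of
`G` of order `2 r`, and `G ⧸ R` contains a Klein four-subgroup: impossible.
-/

set_option autoImplicit false

namespace Cfsg.Agent.H493.PG

open Subgroup

universe u

/-- elements of coprime prime orders which commute -/
theorem orderOf_mul_of_commute {X : Type*} [Group X] {a b : X} {p q : ℕ} (hp : p.Prime) (hq : q.Prime) (hpq : p ≠ q)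
    (ha : orderOf a = p) (hb : orderOf b = q) (hc : Commute a b) : orderOf (a * b) = p * q := by
  rw [hc.orderOf_mul_eq_mul_orderOf_of_coprime (by rw [ha, hb]; exact (Nat.coprime_primes hp hq).2 hpq), ha, hb]

/-- an involution normalising an `r`-subgroup `Q` inverts it, when there is no element of order `2 r` -/
theorem inverts {G : Type u} [Group G] [Finite G] {r : ℕ} [hr : Fact r.Prime] (hr2 : r ≠ 2)
    (hno : ∀ g : G, orderOf g ≠ 2 * r) (Q : Subgroup G) (hQ : IsPGroup r Q) {u : G}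
    (hu : u ∈ normalizer (Q : Set G)) (hu2 : orderOf u = 2) : ∀ q ∈ Q, u * q * u⁻¹ = q⁻¹ := by
  have hfix : ∀ q ∈ Q, u * q * u⁻¹ = q → q = 1 := by
    intro q hq hqu
    by_contra hq1
    have hcomm : Commute u q := by
      rw [mul_inv_eq_iff_eq_mul] at hqu; exact hqu
    -- a power of `q` has order `r`
    have h1 : r ∣ orderOf q := by
      obtain ⟨k, hk⟩ := (IsPGroup.iff_orderOf.mp hQ) ⟨q, hq⟩
      rw [Subgroup.orderOf_mk] at hk
      have hk0 : k ≠ 0 := by
        rintro rfl
        exact hq1 (orderOf_eq_one_iff.mp (by rw [hk, pow_zero]))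
      rw [hk]; exact dvd_pow_self r hk0
    obtain ⟨m, hm⟩ := h1
    have hm0 : m ≠ 0 := by
      rintro rfl
      exact (orderOf_pos q).ne' (by rw [hm, mul_zero])
    have h2 : orderOf (q ^ m) = r := by
      rw [orderOf_pow_of_dvd hm0 ⟨r, by rw [hm, mul_comm]⟩, hm, Nat.mul_div_cancel _ (Nat.pos_of_ne_zero hm0)]
    exact hno _ (orderOf_mul_of_commute Nat.prime_two hr.out hr2.symm hu2 h2 (hcomm.pow_right m))
  have hmem : ∀ q ∈ Q, u * q * u⁻¹ ∈ Q := fun q hq => (mem_normalizer_iff.mp hu q).mp hq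
  let φ : ↥Q →* ↥Q :=
    { toFun := fun q => ⟨u * q * u⁻¹, hmem q q.2⟩
      map_one' := Subtype.ext (by simp)
      map_mul' := fun a b => Subtype.ext (by simp [mul_assoc]) }
  have hφ : MonoidHom.FixedPointFree φ := by
    intro q hq
    exact Subtype.ext (hfix q q.2 (congrArg Subtype.val hq))
  have huu : u * u = 1 := by rw [← pow_two, ← hu2, pow_orderOf_eq_one]
  have hφ2 : Function.Involutive φ := by
    intro q
    apply Subtype.ext
    change u * (u * q * u⁻¹) * u⁻¹ = q
    calc u * (u * q * u⁻¹) * u⁻¹ = (u * u) * q * (u * u)⁻¹ := by group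
      _ = q := by rw [huu]; simp
  intro q hq
  exact congrArg Subtype.val (congrFun (hφ.coe_eq_inv_of_involutive hφ2) ⟨q, hq⟩)

/-- two commuting involutions normalising a nontrivial `r`-subgroup are equal -/
theorem eq_of_commute {G : Type u} [Group G] [Finite G] {r : ℕ} [hr : Fact r.Prime] (hr2 : r ≠ 2)
    (hno : ∀ g : G, orderOf g ≠ 2 * r) (Q : Subgroup G) (hQ : IsPGroup r Q) (hQ1 : Q ≠ ⊥) {s t : G}
    (hs : s ∈ normalizer (Q : Set G)) (ht : t ∈ normalizer (Q : Set G)) (hs2 : orderOf s = 2) (ht2 : orderOf t = 2)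
    (hc : Commute s t) : s = t := by
  by_contra hne
  have hss : s * s = 1 := by rw [← pow_two, ← hs2, pow_orderOf_eq_one]
  have htt : t * t = 1 := by rw [← pow_two, ← ht2, pow_orderOf_eq_one]
  have hst2 : orderOf (s * t) = 2 := by
    have : Fact (Nat.Prime 2) := ⟨Nat.prime_two⟩
    refine orderOf_eq_prime ?_ ?_
    · calc (s * t) ^ 2 = s * (t * s) * t := by rw [pow_two]; group
        _ = (s * s) * (t * t) := by rw [← hc.eq]; group
        _ = 1 := by rw [hss, htt, one_mul]
    · intro h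
      apply hne
      have h1 : s = t⁻¹ := eq_inv_of_mul_eq_one_left h
      rw [h1]
      exact inv_eq_of_mul_eq_one_left htt
  obtain ⟨q, hq1⟩ := Subgroup.ne_bot_iff_exists_ne_one.1 hQ1
  have hq : (q : G) ∈ Q := q.2
  have h1 := inverts hr2 hno Q hQ (mul_mem hs ht) hst2 q hq
  have h2 : s * t * q * (s * t)⁻¹ = q := by
    calc s * t * q * (s * t)⁻¹ = s * (t * q * t⁻¹) * s⁻¹ := by group
      _ = q := by
        rw [inverts hr2 hno Q hQ ht ht2 q hq, inverts hr2 hno Q hQ hs hs2 _ (inv_mem hq), inv_inv]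
  rw [h2] at h1
  have h3 : (q : G) * q = 1 := by
    nth_rewrite 1 [h1]
    exact inv_mul_cancel _
  have h4 : orderOf (q : G) ∣ 2 := orderOf_dvd_of_pow_eq_one (by rw [pow_two]; exact h3)
  obtain ⟨k, hk⟩ := hQ q
  have h5 : orderOf (q : G) ∣ r ^ k := by
    have h6 : orderOf q ∣ r ^ k := orderOf_dvd_of_pow_eq_one hk
    rwa [Subgroup.orderOf_coe]
  have h7 : (2 : ℕ).Coprime (r ^ k) :=
    Nat.Coprime.pow_right k ((Nat.coprime_primes Nat.prime_two hr.out).2 hr2.symm)
  have h8 : orderOf (q : G) = 1 := Nat.eq_one_of_dvd_coprimes h7 h4 h5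
  rw [Subgroup.orderOf_coe, orderOf_eq_one_iff] at h8
  exact hq1 h8

/-- **A Klein four-group above a normal subgroup of odd order divisible by `r`** gives an element of order `2 r`. -/
theorem false_of_klein {G : Type u} [Group G] [Finite G] (R : Subgroup G) [R.Normal] (hR : ¬ 2 ∣ Nat.card R)
    {r : ℕ} (hr : r.Prime) (hr2 : r ≠ 2) (hrR : r ∣ Nat.card R) (hno : ∀ g : G, orderOf g ≠ 2 * r)
    (E : Subgroup (G ⧸ R)) (hE : IsKleinFour E) : False := by
  have : Fact r.Prime := ⟨hr⟩
  have h2p : Fact (Nat.Prime 2) := ⟨Nat.prime_two⟩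
  let Q : Sylow r ↥R := default
  let Q' : Subgroup G := (Q : Subgroup ↥R).map R.subtype
  have hQ' : IsPGroup r ↥Q' := Q.2.map R.subtype
  have hQ1 : Q' ≠ ⊥ := by
    intro h
    have h1 : (Q : Subgroup ↥R) = ⊥ := (Subgroup.map_eq_bot_iff_of_injective _ R.subtype_injective).1 h
    have h2 := Q.dvd_card_of_dvd_card hrR
    rw [h1, Subgroup.card_bot] at h2
    exact hr.one_lt.ne' (Nat.dvd_one.1 h2)
  let N : Subgroup G := normalizer (Q' : Set G)
  have hNR : N ⊔ R = ⊤ := Sylow.normalizer_sup_eq_top Q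
  let φ : ↥N →* G ⧸ R := (QuotientGroup.mk' R).comp N.subtype
  have hsurj : Function.Surjective φ := by
    intro y
    obtain ⟨x, rfl⟩ := QuotientGroup.mk'_surjective R y
    have hx : x ∈ N ⊔ R := by rw [hNR]; trivial
    rw [← SetLike.mem_coe, mul_normal] at hx
    obtain ⟨n, hn, w, hw, rfl⟩ := hx
    refine ⟨⟨n, hn⟩, ?_⟩
    change (QuotientGroup.mk' R) n = (QuotientGroup.mk' R) (n * w)
    have hw1 : (QuotientGroup.mk' R) w = 1 := by
      rw [QuotientGroup.mk'_apply, QuotientGroup.eq_one_iff]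
      exact hw
    rw [map_mul, hw1, mul_one]
  -- a Sylow 2-subgroup of `N` covers a Sylow 2-subgroup of the quotient
  let T : Sylow 2 ↥N := default
  let T1 : Sylow 2 (G ⧸ R) := T.mapSurjective hsurj
  have hE2 : IsPGroup 2 E := IsPGroup.of_card (n := 2) (by rw [hE.card_four]; norm_num)
  obtain ⟨T2, hT2⟩ := hE2.exists_le_sylow
  obtain ⟨g, hg⟩ := MulAction.exists_smul_eq (G ⧸ R) T2 T1
  -- injectivity on `T`
  have hinj : ∀ a ∈ (T : Subgroup ↥N), φ a = 1 → a = 1 := by
    intro a ha h1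
    have h2 : (a : G) ∈ R := by
      have : (QuotientGroup.mk' R) (a : G) = 1 := h1
      rwa [QuotientGroup.mk'_apply, QuotientGroup.eq_one_iff] at this
    obtain ⟨k, hk⟩ := (IsPGroup.iff_orderOf.mp T.isPGroup') ⟨a, ha⟩
    rw [Subgroup.orderOf_mk] at hk
    by_contra hne
    have hk0 : k ≠ 0 := by
      rintro rfl
      exact hne (orderOf_eq_one_iff.mp (by rw [hk, pow_zero]))
    apply hR
    have h3 : orderOf (a : G) ∣ Nat.card R := Subgroup.orderOf_dvd_natCard R h2
    rw [Subgroup.orderOf_coe, hk] at h3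
    exact (dvd_pow_self 2 hk0).trans h3
  -- lift two elements of the Klein four-group
  have hlift : ∀ e ∈ E, ∃ a ∈ (T : Subgroup ↥N), φ a = g * e * g⁻¹ := by
    intro e he
    have h1 : g * e * g⁻¹ ∈ (T1 : Subgroup (G ⧸ R)) := by
      rw [← hg]
      exact ⟨e, hT2 he, rfl⟩
    obtain ⟨a, ha, hae⟩ := h1
    exact ⟨a, ha, hae⟩
  have hcard : 2 < Nat.card E := by rw [hE.card_four]; norm_num
  obtain ⟨e, f, he1, hf1, hef⟩ : ∃ e f : E, e ≠ 1 ∧ f ≠ 1 ∧ e ≠ f := by
    have hnt : Nontrivial E := Finite.one_lt_card_iff_nontrivial.mp (by omega)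
    obtain ⟨e, he⟩ := exists_ne (1 : E)
    by_contra hcon
    push Not at hcon
    have hsub : (Set.univ : Set E) ⊆ {1, e} := by
      intro f _
      by_cases hf : f = 1
      · exact Or.inl hf
      · exact Or.inr (hcon e f he hf).symm
    have h4 : Nat.card E ≤ 2 := by
      rw [← Set.ncard_univ]
      refine (Set.ncard_le_ncard hsub (Set.toFinite _)).trans ((Set.ncard_insert_le _ _).trans ?_)
      rw [Set.ncard_singleton]
    omega
  have hmul : ∀ x : E, x * x = 1 := fun x => hE.mul_self x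
  obtain ⟨a, ha, hae⟩ := hlift e e.2
  obtain ⟨b, hb, hbf⟩ := hlift f f.2
  have horder : ∀ (x : E) (c : ↥N), x ≠ 1 → c ∈ (T : Subgroup ↥N) → φ c = g * x * g⁻¹ → orderOf (c : G) = 2 := by
    intro x c hx hc hcx
    rw [Subgroup.orderOf_coe]
    refine orderOf_eq_prime ?_ ?_
    · rw [pow_two]
      apply hinj _ (mul_mem hc hc)
      rw [map_mul, hcx]
      have : (x : G ⧸ R) * x = 1 := congrArg Subtype.val (hmul x)
      calc g * x * g⁻¹ * (g * x * g⁻¹) = g * (x * x) * g⁻¹ := by group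
        _ = 1 := by rw [this]; group
    · rintro rfl
      rw [map_one] at hcx
      apply hx
      apply Subtype.ext
      have : g⁻¹ * 1 * g = (x : G ⧸ R) := by rw [hcx]; group
      rw [← this]; simp
  have hc : Commute (a : G) (b : G) := by
    have h1 : a * b * a⁻¹ * b⁻¹ = 1 := by
      apply hinj _ (mul_mem (mul_mem (mul_mem ha hb) (inv_mem ha)) (inv_mem hb))
      rw [map_mul, map_mul, map_mul, map_inv, map_inv, hae, hbf]
      have h2 : (e : G ⧸ R) * f = f * e := by
        have h3 : e * f * (e * f) = 1 := hmul _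
        have h4 : e * f = f * e := by
          have h5 : (e * f)⁻¹ = f * e := by
            rw [mul_inv_rev, inv_eq_of_mul_eq_one_left (hmul e), inv_eq_of_mul_eq_one_left (hmul f)]
          rw [← h5]; exact eq_inv_of_mul_eq_one_left h3
        exact congrArg Subtype.val h4
      generalize (e : G ⧸ R) = x at h2 ⊢
      generalize (f : G ⧸ R) = y at h2 ⊢
      calc g * x * g⁻¹ * (g * y * g⁻¹) * (g * x * g⁻¹)⁻¹ * (g * y * g⁻¹)⁻¹ = g * (x * y) * (y * x)⁻¹ * g⁻¹ := by group
        _ = 1 := by rw [h2]; group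
    have h2 : a * b = b * a := by
      have := congrArg (· * (b * a)) h1
      simpa [mul_assoc] using this
    exact congrArg Subtype.val h2
  have heq := eq_of_commute hr2 hno Q' hQ' hQ1 a.2 b.2 (horder e a he1 ha hae) (horder f b hf1 hb hbf) hc
  apply hef
  have h1 : a = b := Subtype.ext heq
  rw [h1, hbf] at hae
  apply Subtype.ext
  have h2 : g⁻¹ * (g * (f : G ⧸ R) * g⁻¹) * g = g⁻¹ * (g * e * g⁻¹) * g := by rw [hae]
  have h3 : (f : G ⧸ R) = e := by
    calc (f : G ⧸ R) = g⁻¹ * (g * (f : G ⧸ R) * g⁻¹) * g := by group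
      _ = g⁻¹ * (g * e * g⁻¹) * g := h2
      _ = e := by group
  exact h3.symm

end Cfsg.Agent.H493.PG
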