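import Cfsg.Agent.H378.TorFin
import Cfsg.Agent.H129.WData
import Cfsg.Agent.H493.PGRed

/-!
# Adjacency in the prime graph through maximal tori of `D.group F`

`w` an element of the Weyl group with matrix `Th` (`rep w (sr j) = Th j`). `EigOK`: explicit polynomial vector
`v(x) = ∑ V i x^i` with `(w - x) v(x) = - f(x) v_last` and `U · v(x) = 1`. Then every prime `r ∣ f(q)` divides the order
of the torus of type `w`, and two such primes (for two polynomials) not dividing `d` are connected in the prime graph.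
-/

set_option autoImplicit false
set_option linter.unusedSectionVars false

namespace Cfsg.Agent.H493.PGTorus

open CoxeterSystem Subgroup Cfsg Cfsg.Lie Cfsg.Lie.ChevalleyDatum
open Cfsg.Agent.ChevalleyStructure Cfsg.Agent.ChevalleyStructure.Elts Cfsg.Agent.ChevalleyStructure.CoxeterGeom
  Cfsg.Agent.ChevalleyStructure.CoxeterGeomTypes Cfsg.Agent.ChevalleyStructure.NPerm
open Cfsg.Agent.Tits.Roots Cfsg.Agent.Tits.Core Cfsg.Agent.Nodes.Reps Cfsg.Agent.Nodes.BNOf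
  Cfsg.Agent.Nodes.RGDChev Cfsg.Agent.Nodes.Bruhat
open Cfsg.Agent.KFacts.RgdField Cfsg.Agent.KFacts.RgdChevCoord Cfsg.Agent.BpExc.TorCent Cfsg.Agent.BpExc.TorChev
open Cfsg.Agent.BpExc.Tow Cfsg.Agent.BpExc.TowChev Cfsg.Agent.BpExc.FamExt Cfsg.Agent.BpExc.FamUntw
  Cfsg.Agent.BpExc.FamInst Cfsg.Agent.BpExc.LangFr Cfsg.Agent.BpExc.FamField
open Cfsg.Agent.H378.TorDual Cfsg.Agent.H378.TorChar Cfsg.Agent.H378.TorFin

universe u

/-- `c 0 + c 1 q + ... + c (f-1) q^(f-1) + q^f` -/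
def pv {f : ℕ} (c : Fin f → ℤ) (q : ℤ) : ℤ := q ^ f + ∑ i, c i * q ^ (i : ℕ)

/-- the checks for an explicit eigenvector modulo `f(x)` -/
def EigOK {l f : ℕ} (Th : Fin l → Fin l → ℤ) (c : Fin (f + 1) → ℤ) (V : Fin (f + 1) → Fin l → ℤ) (U : Fin l → ℤ) :
    Prop :=
  (∀ m, ∑ j, V 0 j * Th j m = - c 0 * V (Fin.last f) m) ∧
  (∀ (i : Fin f) (m : Fin l), ∑ j, V i.succ j * Th j m = V i.castSucc m - c i.succ * V (Fin.last f) m) ∧
  (∀ i : Fin (f + 1), ∑ m, U m * V i m = if i = 0 then 1 else 0)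

instance decEigOK {l f : ℕ} (Th : Fin l → Fin l → ℤ) (c : Fin (f + 1) → ℤ) (V : Fin (f + 1) → Fin l → ℤ)
    (U : Fin l → ℤ) : Decidable (EigOK Th c V U) := by
  unfold EigOK; infer_instance

section

variable {l : ℕ} {w : Module.End ℤ (Fin l → ℤ)} {Th : Fin l → Fin l → ℤ}

/-- the value of the polynomial vector -/
def vval {l f : ℕ} (V : Fin (f + 1) → Fin l → ℤ) (q : ℤ) : Fin l → ℤ :=
  fun m => ∑ i : Fin (f + 1), q ^ (i : ℕ) * V i m

theorem eig_apply (hw : ∀ (x : Fin l → ℤ) (m : Fin l), w x m = ∑ j, x j * Th j m) {f : ℕ} {c : Fin (f + 1) → ℤ}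
    {V : Fin (f + 1) → Fin l → ℤ} {U : Fin l → ℤ} (h : EigOK Th c V U) (q : ℤ) :
    (w - q • (1 : Module.End ℤ (Fin l → ℤ))) (vval V q) = - (pv c q) • V (Fin.last f) := by
  funext m
  have h1 : (w - q • (1 : Module.End ℤ (Fin l → ℤ))) (vval V q) m = w (vval V q) m - q * vval V q m := rfl
  rw [h1, hw]
  have h2 : ∑ j, vval V q j * Th j m = ∑ i : Fin (f + 1), q ^ (i : ℕ) * ∑ j, V i j * Th j m := by
    unfold vval
    simp only [Finset.sum_mul, Finset.mul_sum]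
    rw [Finset.sum_comm]
    refine Finset.sum_congr rfl fun i _ => Finset.sum_congr rfl fun j _ => by ring
  rw [h2, Fin.sum_univ_succ]
  simp only [Fin.val_zero, pow_zero, one_mul, Fin.val_succ]
  rw [h.1 m]
  have h3 : ∀ i : Fin f, q ^ ((i : ℕ) + 1) * ∑ j, V i.succ j * Th j m =
      q ^ ((i : ℕ) + 1) * V i.castSucc m - q ^ ((i : ℕ) + 1) * (c i.succ * V (Fin.last f) m) := by
    intro i
    rw [h.2.1 i m]; ring
  rw [Finset.sum_congr rfl fun i _ => h3 i, Finset.sum_sub_distrib]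
  have h4 : q * vval V q m = ∑ i : Fin f, q ^ ((i : ℕ) + 1) * V i.castSucc m + q ^ (f + 1) * V (Fin.last f) m := by
    unfold vval
    rw [Fin.sum_univ_castSucc, mul_add, Finset.mul_sum]
    simp only [Fin.val_castSucc, Fin.val_last]
    congr 1
    · exact Finset.sum_congr rfl fun i _ => by ring
    · ring
  rw [h4]
  have h5 : (-(pv c q) • V (Fin.last f)) m = -(pv c q) * V (Fin.last f) m := rfl
  rw [h5]
  unfold pv
  rw [Fin.sum_univ_succ]
  simp only [Fin.val_zero, pow_zero, mul_one, Fin.val_succ]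
  have h6 : ∑ i : Fin f, q ^ ((i : ℕ) + 1) * (c i.succ * V (Fin.last f) m) =
      (∑ i : Fin f, c i.succ * q ^ ((i : ℕ) + 1)) * V (Fin.last f) m := by
    rw [Finset.sum_mul]
    exact Finset.sum_congr rfl fun i _ => by ring
  rw [h6]
  ring

theorem eig_unit {f : ℕ} {c : Fin (f + 1) → ℤ}
    {V : Fin (f + 1) → Fin l → ℤ} {U : Fin l → ℤ} (h : EigOK Th c V U) (q : ℤ) : ∑ m, U m * vval V q m = 1 := by
  unfold vval
  simp only [Finset.mul_sum]
  rw [Finset.sum_comm]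
  have h1 : ∀ i : Fin (f + 1), ∑ m, U m * (q ^ (i : ℕ) * V i m) = q ^ (i : ℕ) * if i = 0 then 1 else 0 := by
    intro i
    rw [← h.2.2 i, Finset.mul_sum]
    exact Finset.sum_congr rfl fun m _ => by ring
  rw [Finset.sum_congr rfl fun i _ => h1 i, Fin.sum_univ_succ]
  simp [Fin.succ_ne_zero]

theorem sub_injective {n : ℕ} (hn : 0 < n) (hw : w ^ n = 1) {q : ℤ} (hq : 2 ≤ q) {x : Fin l → ℤ}
    (hx : (w - q • (1 : Module.End ℤ (Fin l → ℤ))) x = 0) : x = 0 := by
  have h1 : w x = q • x := by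
    have : (w - q • (1 : Module.End ℤ (Fin l → ℤ))) x = w x - q • x := rfl
    rw [this] at hx
    exact sub_eq_zero.mp hx
  have h2 : ∀ k : ℕ, (w ^ k) x = q ^ k • x := by
    intro k
    induction k with
    | zero => simp
    | succ k ih => rw [pow_succ', Module.End.mul_apply, ih, map_smul, h1, smul_smul, pow_succ]
  have h3 := h2 n
  rw [hw, Module.End.one_apply] at h3
  have h4 : (q ^ n - 1) • x = 0 := by rw [sub_smul, one_smul, ← h3, sub_self]
  have h5 : q ^ n - 1 ≠ 0 := by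
    have : 2 ≤ q ^ n := by
      calc (2 : ℤ) = 2 ^ 1 := by norm_num
        _ ≤ 2 ^ n := pow_le_pow_right₀ (by norm_num) hn
        _ ≤ q ^ n := pow_le_pow_left₀ (by norm_num) hq n
    omega
  exact (smul_eq_zero.mp h4).resolve_left h5

/-- **An element of order `r` in the cokernel.** -/
theorem exists_order (hw : ∀ (x : Fin l → ℤ) (m : Fin l), w x m = ∑ j, x j * Th j m) {n : ℕ} (hn : 0 < n)
    (hwn : w ^ n = 1) {f : ℕ} {c : Fin (f + 1) → ℤ} {V : Fin (f + 1) → Fin l → ℤ} {U : Fin l → ℤ}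
    (h : EigOK Th c V U) {q : ℤ} (hq : 2 ≤ q) {r : ℕ} (hr : r.Prime) (hd : (r : ℤ) ∣ pv c q) :
    ∃ y : Multiplicative ((Fin l → ℤ) ⧸ LinearMap.range (w - q • (1 : Module.End ℤ (Fin l → ℤ)))),
      orderOf y = r := by
  obtain ⟨N, hN⟩ := hd
  have h1 := eig_apply hw h q
  have h2 := eig_unit h q
  set v := vval V q
  let u : Fin l → ℤ := -N • V (Fin.last f)
  have hu : (w - q • (1 : Module.End ℤ (Fin l → ℤ))) v = (r : ℤ) • u := by
    rw [h1, hN]
    show _ = (r : ℤ) • (-N • V (Fin.last f))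
    rw [smul_smul]
    congr 1
    ring
  refine ⟨Multiplicative.ofAdd (Submodule.Quotient.mk u), ?_⟩
  have : Fact r.Prime := ⟨hr⟩
  refine orderOf_eq_prime ?_ ?_
  · rw [← ofAdd_nsmul]
    apply Multiplicative.toAdd.injective
    rw [toAdd_ofAdd, toAdd_one, ← Submodule.Quotient.mk_smul, Submodule.Quotient.mk_eq_zero]
    refine ⟨v, ?_⟩
    rw [hu, natCast_zsmul]
  · intro h0
    have h3 : (Submodule.Quotient.mk u : (Fin l → ℤ) ⧸ LinearMap.range (w - q • (1 : Module.End ℤ (Fin l → ℤ)))) = 0 :=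
      Multiplicative.ofAdd.injective h0
    rw [Submodule.Quotient.mk_eq_zero] at h3
    obtain ⟨v', hv'⟩ := h3
    have h4 : (w - q • (1 : Module.End ℤ (Fin l → ℤ))) (v - (r : ℤ) • v') = 0 := by
      rw [map_sub, map_smul, hu, hv', sub_self]
    have h5 := sub_injective hn hwn hq h4
    have h6 : v = (r : ℤ) • v' := sub_eq_zero.mp h5
    rw [h6] at h2
    have h7 : (r : ℤ) ∣ 1 := by
      rw [← h2]
      refine Finset.dvd_sum fun m _ => ?_
      show (r : ℤ) ∣ U m * ((r : ℤ) * v' m)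
      exact ⟨U m * v' m, by ring⟩
    have h8 := Int.natCast_dvd_natCast.mp (by simpa using h7 : (r : ℤ) ∣ ((1 : ℕ) : ℤ))
    exact hr.one_lt.ne' (Nat.dvd_one.mp h8)

end

variable {D : ChevalleyDatum} {l : ℕ} {M : CoxeterMatrix (Fin l)} (hp : IsType D l M) {W : Type*} [Group W] [Finite W]
  (cs : CoxeterSystem M W)

theorem rep_apply_eq {w : W} {Th : Fin l → Fin l → ℤ} (h : ∀ j, rep cs hp.isCartan w (sr j) = Th j)
    (x : Fin l → ℤ) (m : Fin l) : rep cs hp.isCartan w x m = ∑ j, x j * Th j m := by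
  conv_lhs => rw [H129.TorusChar.IsMC.eq_sum_sr x]
  rw [map_sum, Finset.sum_apply]
  refine Finset.sum_congr rfl fun j _ => ?_
  rw [map_zsmul, Pi.smul_apply, smul_eq_mul, h j]

/-- **Two primes dividing the values of two polynomials at `q` with eigenvectors of the same `w` are connected.** -/
theorem conn_of_eig {d : ℕ} {B : Fin l → Fin l → ℤ} (hB : InvC D l d B) (hd : d ≠ 0) {F : Type u} [Field F] [Finite F]
    {w : W} {Th : Fin l → Fin l → ℤ} (hw : ∀ j, rep cs hp.isCartan w (sr j) = Th j)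
    {f : ℕ} {c : Fin (f + 1) → ℤ} {V : Fin (f + 1) → Fin l → ℤ} {U : Fin l → ℤ} (h : EigOK Th c V U)
    {f' : ℕ} {c' : Fin (f' + 1) → ℤ} {V' : Fin (f' + 1) → Fin l → ℤ} {U' : Fin l → ℤ} (h' : EigOK Th c' V' U')
    {r s : ℕ} (hr : r.Prime) (hs : s.Prime) (hrd : ¬ r ∣ d) (hsd : ¬ s ∣ d)
    (h1 : (r : ℤ) ∣ pv c (Nat.card F)) (h2 : (s : ℤ) ∣ pv c' (Nat.card F)) :
    PG.Conn ↥(D.group F) r s := by
  obtain ⟨φ, hφ⟩ := exists_hom hp cs hB hd (F := F) w
  have hq : (2 : ℤ) ≤ (Nat.card F : ℤ) := by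
    exact_mod_cast Finite.one_lt_card
  have hwn : (rep cs hp.isCartan w) ^ Nat.card W = 1 := by
    rw [← map_pow, pow_card_eq_one', map_one]
  obtain ⟨x, hx⟩ := exists_order (rep_apply_eq hp cs hw) Nat.card_pos hwn h hq hr h1
  obtain ⟨y, hy⟩ := exists_order (rep_apply_eq hp cs hw) Nat.card_pos hwn h' hq hs h2
  have key : ∀ {t : ℕ} (_ : t.Prime) (_ : ¬ t ∣ d) {z : Multiplicative ((Fin l → ℤ) ⧸ LinearMap.range
      (rep cs hp.isCartan w - ((Nat.card F : ℕ) : ℤ) • (1 : Module.End ℤ (Fin l → ℤ))))} (_ : orderOf z = t),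
      orderOf (φ z) = t := by
    intro t ht htd z hz
    have : Fact t.Prime := ⟨ht⟩
    refine orderOf_eq_prime ?_ ?_
    · rw [← map_pow, ← hz, pow_orderOf_eq_one, map_one]
    · intro h0
      exact htd (hz ▸ orderOf_dvd_of_pow_eq_one (hφ z h0))
  refine PG.Conn.of_commute hr hs (x := φ x) (y := φ y) ?_ (by rw [key hr hrd hx]) (by rw [key hs hsd hy])
  show φ x * φ y = φ y * φ x
  rw [← map_mul, ← map_mul, mul_comm]

end Cfsg.Agent.H493.PGTorus
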