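import Cfsg.Agent.H129.TorusMain
import Cfsg.Agent.H129.TorusUntw
import Cfsg.Agent.H493.PGTorus

/-!
# Adjacency in the prime graph through twisted maximal tori

`σ` a twisted Frobenius automorphism of `D.group k` with lattice automorphism `g`, `G0` embedded with image between
`{y ^ d | σ y = y}` and the fixed points. `w` an element of the Weyl group, `Th` the matrix of `w g`, `EigOK Thᵀ c V U`:
a functional `λ` with `λ (w g x) = q λ(x)` modulo `c(q)`.
* `conn_of_eig` : `r ∣ c(q)`, `s ∣ c'(q)` : `r`, `s` are connected in the prime graph of `G0`;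
* `conn_p_of_eig` : if `w g` fixes a root `a` and `λ(a) = 0`, `r` is connected to the characteristic.
-/

set_option autoImplicit false
set_option linter.unusedSectionVars false

namespace Cfsg.Agent.H493.PGTwist

open CoxeterSystem Cfsg Cfsg.Lie Cfsg.Lie.ChevalleyDatum
open Cfsg.Agent.ChevalleyStructure Cfsg.Agent.ChevalleyStructure.Elts Cfsg.Agent.ChevalleyStructure.CoxeterGeom
  Cfsg.Agent.ChevalleyStructure.CoxeterGeomTypes Cfsg.Agent.ChevalleyStructure.NPerm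
open Cfsg.Agent.Tits.Roots Cfsg.Agent.Tits.Core Cfsg.Agent.Nodes Cfsg.Agent.Nodes.Reps Cfsg.Agent.Nodes.BNOf
  Cfsg.Agent.Nodes.RGDChev Cfsg.Agent.Nodes.Bruhat Cfsg.Agent.Nodes.SubComb Cfsg.Agent.Nodes.Coroot
open Cfsg.Agent.KFacts.RgdField Cfsg.Agent.KFacts.RgdChevCoord Cfsg.Agent.BpExc.TorCent Cfsg.Agent.BpExc.TorChev
open Cfsg.Agent.GpExc.Field Cfsg.Agent.BpExc.Tow Cfsg.Agent.BpExc.TowChev Cfsg.Agent.BpExc.Fr
  Cfsg.Agent.BpExc.LangFr Cfsg.Agent.LangThm Cfsg.Agent.BpExc Cfsg.Agent.H129.TorusChar Cfsg.Agent.H129.TorusCent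
  Cfsg.Agent.H129.TorusTw Cfsg.Agent.H129.TorusMain Cfsg.Agent.H493.PGTorus

universe u

/-! ### the functional -/

/-- the functional with values `vval V q j` at `sr j` -/
def lam {l f : ℕ} (V : Fin (f + 1) → Fin l → ℤ) (q : ℤ) : (Fin l → ℤ) →+ ℤ where
  toFun x := ∑ m, x m * vval V q m
  map_zero' := Finset.sum_eq_zero fun m _ => by rw [Pi.zero_apply, zero_mul]
  map_add' x y := by
    rw [← Finset.sum_add_distrib]
    exact Finset.sum_congr rfl fun m _ => by rw [Pi.add_apply, add_mul]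

theorem lam_apply {l f : ℕ} (V : Fin (f + 1) → Fin l → ℤ) (q : ℤ) (x : Fin l → ℤ) :
    lam V q x = ∑ m, x m * vval V q m := rfl

/-- the endomorphism of `ℤ^l` with the transposed matrix -/
def tr {l : ℕ} (Th : Fin l → Fin l → ℤ) : Module.End ℤ (Fin l → ℤ) where
  toFun x m := ∑ j, x j * Th m j
  map_add' x y := by
    funext m
    rw [Pi.add_apply, ← Finset.sum_add_distrib]
    exact Finset.sum_congr rfl fun j _ => by rw [Pi.add_apply, add_mul]
  map_smul' a x := by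
    funext m
    rw [RingHom.id_apply, Pi.smul_apply, smul_eq_mul, Finset.mul_sum]
    exact Finset.sum_congr rfl fun j _ => by rw [Pi.smul_apply, smul_eq_mul, mul_assoc]

theorem lam_theta {l f : ℕ} {θ : (Fin l → ℤ) →+ (Fin l → ℤ)} {Th : Fin l → Fin l → ℤ}
    (hθ : ∀ j, θ (sr j) = Th j) {c : Fin (f + 1) → ℤ} {V : Fin (f + 1) → Fin l → ℤ} {U : Fin l → ℤ}
    (h : EigOK (fun i j => Th j i) c V U) (q : ℤ) (x : Fin l → ℤ) :
    lam V q (θ x) - q * lam V q x = - (pv c q) * ∑ m, x m * V (Fin.last f) m := by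
  have h1 := eig_apply (w := tr Th) (Th := fun i j => Th j i) (fun _ _ => rfl) h q
  have h2 : ∀ m, ∑ j, vval V q j * Th m j - q * vval V q m = - (pv c q) * V (Fin.last f) m := fun m => congrFun h1 m
  have h3 : θ x = ∑ j, x j • Th j := by
    conv_lhs => rw [H129.TorusChar.IsMC.eq_sum_sr x]
    rw [map_sum]
    exact Finset.sum_congr rfl fun j _ => by rw [map_zsmul, hθ]
  rw [lam_apply, lam_apply, h3]
  have h4 : ∀ m, (∑ j, x j • Th j) m = ∑ j, x j * Th j m := fun m => by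
    rw [Finset.sum_apply]
    exact Finset.sum_congr rfl fun j _ => rfl
  simp only [h4]
  have h5 : ∑ m, (∑ j, x j * Th j m) * vval V q m = ∑ j, x j * ∑ m, vval V q m * Th j m := by
    simp only [Finset.sum_mul, Finset.mul_sum]
    rw [Finset.sum_comm]
    exact Finset.sum_congr rfl fun j _ => Finset.sum_congr rfl fun m _ => by ring
  rw [h5, Finset.mul_sum, ← Finset.sum_sub_distrib, Finset.mul_sum]
  refine Finset.sum_congr rfl fun j _ => ?_
  have h6 := h2 j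
  calc x j * ∑ m, vval V q m * Th j m - q * (x j * vval V q j)
      = x j * (∑ m, vval V q m * Th j m - q * vval V q j) := by ring
    _ = _ := by rw [h6]; ring

theorem lam_unit {l f : ℕ} {Th : Fin l → Fin l → ℤ} {c : Fin (f + 1) → ℤ} {V : Fin (f + 1) → Fin l → ℤ}
    {U : Fin l → ℤ} (h : EigOK Th c V U) (q : ℤ) : lam V q U = 1 := eig_unit h q

theorem lam_zero {l f : ℕ} {V : Fin (f + 1) → Fin l → ℤ} {a : Fin l → ℤ} (h : ∀ i, ∑ m, a m * V i m = 0) (q : ℤ) :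
    lam V q a = 0 := by
  rw [lam_apply]
  unfold vval
  simp only [Finset.mul_sum]
  rw [Finset.sum_comm]
  refine Finset.sum_eq_zero fun i _ => ?_
  have h1 : ∑ m, a m * (q ^ (i : ℕ) * V i m) = q ^ (i : ℕ) * ∑ m, a m * V i m := by
    rw [Finset.mul_sum]
    exact Finset.sum_congr rfl fun m _ => by ring
  rw [h1, h i, mul_zero]

/-- a prime dividing the value is not the characteristic -/
theorem ne_char {f : ℕ} {c : Fin (f + 1) → ℤ} (hc : c 0 = 1 ∨ c 0 = -1) {p e r : ℕ} (hp : p.Prime) (he : 0 < e)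
    (h : (r : ℤ) ∣ pv c ((p ^ e : ℕ) : ℤ)) : r ≠ p := by
  rintro rfl
  have h1 : (r : ℤ) ∣ ((r ^ e : ℕ) : ℤ) := Int.natCast_dvd_natCast.2 (dvd_pow_self r he.ne')
  unfold pv at h
  rw [Fin.sum_univ_succ] at h
  have h2 : (r : ℤ) ∣ c 0 := by
    have h3 : (r : ℤ) ∣ ((r ^ e : ℕ) : ℤ) ^ (f + 1) := dvd_pow h1 (Nat.succ_ne_zero f)
    have h4 : (r : ℤ) ∣ ∑ i : Fin f, c i.succ * ((r ^ e : ℕ) : ℤ) ^ ((i.succ : Fin (f + 1)) : ℕ) := by
      refine Finset.dvd_sum fun i _ => ?_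
      exact dvd_mul_of_dvd_right (dvd_pow h1 (by simp)) _
    have h5 := (Int.dvd_add_right h3).1 h
    have h6 := (Int.dvd_add_left h4).1 h5
    simpa using h6
  have h7 : (r : ℤ) ∣ 1 := by
    rcases hc with h0 | h0
    · rwa [h0] at h2
    · rw [h0] at h2
      exact (Int.dvd_neg).1 h2
  have h8 := Int.natCast_dvd_natCast.mp (by simpa using h7 : (r : ℤ) ∣ ((1 : ℕ) : ℤ))
  exact hp.one_lt.ne' (Nat.dvd_one.mp h8)

/-! ### elements of the algebraic group -/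

section Alg

variable {D : ChevalleyDatum} {l : ℕ} {M : CoxeterMatrix (Fin l)} (hp : IsType D l M) {k : Type u} [Field k]
  [IsAlgClosed k] {W : Type*} [Group W] (cs : CoxeterSystem M W) {p e : ℕ} [Fact p.Prime] [CharP k p]
  {σ : MulAut ↥(D.group k)} {g : (Fin l → ℤ) ≃+ (Fin l → ℤ)}

/-- **The twisted form `conj n * σ` of type `w`.** -/
theorem exists_z [Finite W] (hk : LocFin k) (he : 0 < e) (hσ : IsFrob p e σ)
    (F : Fr cs hp.isCartan (TT D k) (XX D l k) σ g) (w : W) :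
    ∃ n z : ↥(D.group k), n = z⁻¹ * σ z ∧ IsFrob p e (MulAut.conj n * σ) ∧
      Fr cs hp.isCartan (TT D k) (XX D l k) (MulAut.conj n * σ) (g.trans (repAut cs hp.isCartan w)) := by
  have H := tow hp cs hk p
  obtain ⟨n, hn⟩ := Nodes.Reps.exists_rp cs H.nsys w
  obtain ⟨z, hz⟩ := lang_all hp cs he hσ F 1 n
  rw [map_one, one_mul] at hz
  refine ⟨n, z, hz, hσ.conj_mul n, ?_⟩
  have F1 := Fr.conj H hn
  rw [TL_eq hp hk, XL_eq hp hk] at F1
  exact F1.mul F

theorem fix_conj {Y : Type*} [Group Y] {σ : MulAut Y} {n z y : Y} (hz : n = z⁻¹ * σ z)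
    (h : (MulAut.conj n * σ) y = y) : σ (z * y * z⁻¹) = z * y * z⁻¹ := by
  have h1 : n * σ y * n⁻¹ = y := h
  have h2 : σ z = z * n := by rw [hz]; group
  rw [map_mul, map_mul, map_inv, h2]
  calc z * n * σ y * (z * n)⁻¹ = z * (n * σ y * n⁻¹) * z⁻¹ := by group
    _ = _ := by rw [h1]

/-- **Torus elements of prime order.** -/
theorem exists_t (hσ : IsFrob p e σ) (F : Fr cs hp.isCartan (TT D k) (XX D l k) σ g) {d' : ℕ}
    {B' : Fin l → Fin l → ℤ} (hB : InvC D l d' B') (hd' : d' ≠ 0) {L : (Fin l → ℤ) →+ ℤ} {r : ℕ} (hr : r.Prime)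
    (hrp : r ≠ p) (hL : ∀ x, (r : ℤ) ∣ L (g x) - ((p ^ e : ℕ) : ℤ) * L x) {x₀ : Fin l → ℤ} (hx₀ : ¬ (r : ℤ) ∣ L x₀) :
    ∃ t ∈ TT D k, σ t = t ∧ orderOf t = r ∧ ∀ x, (r : ℤ) ∣ L x → cX hp t x = 1 := by
  have := Fact.mk hr
  have hrk : (r : k) ≠ 0 := by
    rw [Ne, CharP.cast_eq_zero_iff k p]
    intro h
    exact hrp ((Nat.prime_dvd_prime_iff_eq (Fact.out : p.Prime) hr).1 h).symm
  have : NeZero (r : k) := ⟨hrk⟩
  obtain ⟨u, hu⟩ := HasEnoughRootsOfUnity.exists_primitiveRoot k r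
  have hu0 : u ≠ 0 := hu.ne_zero hr.ne_zero
  have hMC : IsMC (fun x : Fin l → ℤ => u ^ L x) :=
    ⟨by rw [map_zero, zpow_zero], fun x y => by rw [map_add, zpow_add₀ hu0]⟩
  obtain ⟨t, ht, hcX⟩ := exists_cX hp hB hd' hMC fun i =>
    IsAlgClosed.exists_pow_nat_eq _ (Nat.pos_of_ne_zero hd')
  have hone : ∀ z : ℤ, u ^ z = 1 ↔ (r : ℤ) ∣ z := fun z => hu.zpow_eq_one_iff_dvd z
  have hσt : σ t ∈ TT D k := (F.tor t).2 ht
  refine ⟨t, ht, ?_, ?_, fun x hx => ?_⟩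
  · refine cX_inj hp hσt ht fun i => ?_
    have h1 : sr i = g (g.symm (sr i)) := (g.apply_symm_apply _).symm
    rw [h1, cX_sigma hp cs hσ F ht, hcX, hcX, ← zpow_natCast, ← zpow_mul]
    obtain ⟨N, hN⟩ := hL (g.symm (sr i))
    have h2 : L (g (g.symm (sr i))) = L (g.symm (sr i)) * ((p ^ e : ℕ) : ℤ) + (r : ℤ) * N := by
      rw [← hN]; ring
    rw [h2, zpow_add₀ hu0, (hone ((r : ℤ) * N)).2 (dvd_mul_right _ _), mul_one]
  · refine orderOf_eq_prime ?_ ?_
    · refine cX_inj hp (pow_mem ht r) (one_mem _) fun i => ?_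
      rw [cX_pow hp ht, cX_one, hcX, ← zpow_natCast, ← zpow_mul, hone]
      exact dvd_mul_left _ _
    · intro h0
      apply hx₀
      rw [← hone, ← hcX, h0, cX_one]
  · rw [hcX]; exact (hone _).2 hx

/-- **Unipotent elements.** -/
theorem exists_x (hk : LocFin k) (he : 0 < e) (hσ : IsFrob p e σ)
    (F : Fr cs hp.isCartan (TT D k) (XX D l k) σ g) {a : Fin l → ℤ} (ha : IsRoot cs hp.isCartan a) (hga : g a = a) :
    ∃ x : ↥(D.group k), σ x = x ∧ orderOf x = p ∧ ∀ t ∈ TT D k, cX hp t a = 1 → t * x = x * t := by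
  obtain ⟨c, hc, h1⟩ := HX.fr_xc hp cs hσ F ha
  rw [hga] at h1
  have hq : 1 < p ^ e := Nat.one_lt_pow he.ne' (Fact.out : p.Prime).one_lt
  obtain ⟨s, hs⟩ := IsAlgClosed.exists_pow_nat_eq c⁻¹ (n := p ^ e - 1) (by omega)
  have hs0 : s ≠ 0 := by
    rintro rfl
    rw [zero_pow (by omega)] at hs
    exact inv_ne_zero hc hs.symm
  have hs1 : c * s ^ p ^ e = s := by
    have e1 : s ^ p ^ e = s ^ (p ^ e - 1) * s := by
      rw [← pow_succ]; congr 1; omega
    rw [e1, hs, ← mul_assoc, mul_inv_cancel₀ hc, one_mul]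
  have C := coordsL hp cs hk p
  obtain ⟨r, hr, rfl⟩ := (isRoot_iff hp cs a).1 ha
  have hpow : ∀ n : ℕ, xc hp (vec D l r) s ^ n = xc hp (vec D l r) (n * s) := by
    intro n
    induction n with
    | zero =>
      rw [pow_zero, Nat.cast_zero, zero_mul]
      apply Subtype.ext
      rw [coe_xc hp hr, xG_zero]
      rfl
    | succ n ih =>
      rw [pow_succ, ih]
      apply Subtype.ext
      rw [Subgroup.coe_mul, coe_xc hp hr, coe_xc hp hr, coe_xc hp hr, Nat.cast_succ, add_mul, one_mul, xG_add]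
  have hx0 : xc hp (vec D l r) (0 : k) = 1 := by
    apply Subtype.ext
    rw [coe_xc hp hr, xG_zero]
    rfl
  refine ⟨xc hp (vec D l r) s, ?_, ?_, fun t ht h2 => ?_⟩
  · rw [h1, hs1]
  · refine orderOf_eq_prime ?_ ?_
    · rw [hpow, CharP.cast_eq_zero, zero_mul, hx0]
    · intro h0
      rw [← hx0] at h0
      exact hs0 (xc_inj hp hr h0)
  · have h3 := (act hp hr ht).2 s
    rw [← cX_root hp cs ht ha, h2, one_mul] at h3
    calc t * xc hp (vec D l r) s = t * xc hp (vec D l r) s * t⁻¹ * t := by group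
      _ = _ := by rw [h3]

end Alg

/-! ### descent -/

theorem conn_desc {G0 Y : Type*} [Group G0] [Finite G0] [Group Y] {e0 : G0 →* Y} (he0 : Function.Injective e0) {σ : MulAut Y}
    {d : ℕ} (hd : ∀ y, σ y = y → y ^ d ∈ e0.range) {y y' : Y} (hy : σ y = y) (hy' : σ y' = y')
    (hc : y * y' = y' * y) {r s : ℕ} (hr : r.Prime) (hs : s.Prime) (hyr : orderOf y = r) (hys : orderOf y' = s)
    (hrd : ¬ r ∣ d) (hsd : ¬ s ∣ d) : PG.Conn G0 r s := by
  obtain ⟨x, hx⟩ := hd y hy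
  obtain ⟨x', hx'⟩ := hd y' hy'
  have key : ∀ {y : Y} {x : G0} {r : ℕ}, r.Prime → orderOf y = r → ¬ r ∣ d → e0 x = y ^ d → orderOf x = r := by
    intro y x r hr hyr hrd hx
    rw [← orderOf_injective e0 he0 x, hx, Nat.Coprime.orderOf_pow, hyr]
    rw [hyr]
    exact (Nat.Prime.coprime_iff_not_dvd hr).2 hrd
  refine PG.Conn.of_commute hr hs (x := x) (y := x') ?_ (by rw [key hr hyr hrd hx]) (by rw [key hs hys hsd hx'])
  apply he0
  rw [map_mul, map_mul, hx, hx']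
  exact ((show Commute y y' from hc).pow_pow d d).eq

section Main

variable {D : ChevalleyDatum} {l : ℕ} {M : CoxeterMatrix (Fin l)} (hp : IsType D l M) {k : Type u} [Field k]
  [IsAlgClosed k] {W : Type*} [Group W] [Finite W] (cs : CoxeterSystem M W) {p e : ℕ} [Fact p.Prime] [CharP k p]
  {σ : MulAut ↥(D.group k)} {g : (Fin l → ℤ) ≃+ (Fin l → ℤ)}
  {G0 : Type*} [Group G0] [Finite G0] {e0 : G0 →* ↥(D.group k)}

theorem hL_of_eig {w : W} {Th : Fin l → Fin l → ℤ} (hw : ∀ j, rep cs hp.isCartan w (g (sr j)) = Th j)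
    {f : ℕ} {c : Fin (f + 1) → ℤ} {V : Fin (f + 1) → Fin l → ℤ} {U : Fin l → ℤ}
    (h : EigOK (fun i j => Th j i) c V U) {q : ℤ} {r : ℕ} (hr : (r : ℤ) ∣ pv c q) (x : Fin l → ℤ) :
    (r : ℤ) ∣ lam V q ((g.trans (repAut cs hp.isCartan w)) x) - q * lam V q x := by
  have h1 := lam_theta (θ := theta hp cs w g) (Th := Th) hw h q x
  have h2 : (g.trans (repAut cs hp.isCartan w)) x = theta hp cs w g x := rfl
  rw [h2, h1, neg_mul]
  exact (Dvd.dvd.mul_right hr _).neg_right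

/-- **Two primes dividing values of two characteristic polynomials.** -/
theorem conn_of_eig (hk : LocFin k) (he : 0 < e) (hσ : IsFrob p e σ)
    (F : Fr cs hp.isCartan (TT D k) (XX D l k) σ g) {d' : ℕ} {B' : Fin l → Fin l → ℤ} (hB : InvC D l d' B')
    (hd' : d' ≠ 0) (he0 : Function.Injective e0) {d : ℕ} (hd : ∀ y, σ y = y → y ^ d ∈ e0.range)
    {w : W} {Th : Fin l → Fin l → ℤ} (hw : ∀ j, rep cs hp.isCartan w (g (sr j)) = Th j)
    {f : ℕ} {c : Fin (f + 1) → ℤ} {V : Fin (f + 1) → Fin l → ℤ} {U : Fin l → ℤ}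
    (h : EigOK (fun i j => Th j i) c V U) (hc : c 0 = 1 ∨ c 0 = -1)
    {f' : ℕ} {c' : Fin (f' + 1) → ℤ} {V' : Fin (f' + 1) → Fin l → ℤ} {U' : Fin l → ℤ}
    (h' : EigOK (fun i j => Th j i) c' V' U') (hc' : c' 0 = 1 ∨ c' 0 = -1)
    {r s : ℕ} (hr : r.Prime) (hs : s.Prime) (hrd : ¬ r ∣ d) (hsd : ¬ s ∣ d)
    (h1 : (r : ℤ) ∣ pv c ((p ^ e : ℕ) : ℤ)) (h2 : (s : ℤ) ∣ pv c' ((p ^ e : ℕ) : ℤ)) : PG.Conn G0 r s := by
  obtain ⟨n, z, hz, hσ', F'⟩ := exists_z hp cs hk he hσ F w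
  obtain ⟨t, ht, h3, h4, -⟩ := exists_t hp cs hσ' F' hB hd' hr (ne_char hc Fact.out he h1) (hL_of_eig hp cs hw h h1)
    (x₀ := U) (by
      rw [lam_unit h]
      intro h7
      have h8 := Int.natCast_dvd_natCast.mp (by simpa using h7 : (r : ℤ) ∣ ((1 : ℕ) : ℤ))
      exact hr.one_lt.ne' (Nat.dvd_one.mp h8))
  obtain ⟨t', ht', h3', h4', -⟩ := exists_t hp cs hσ' F' hB hd' hs (ne_char hc' Fact.out he h2)
    (hL_of_eig hp cs hw h' h2) (x₀ := U') (by
      rw [lam_unit h']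
      intro h7
      have h8 := Int.natCast_dvd_natCast.mp (by simpa using h7 : (s : ℤ) ∣ ((1 : ℕ) : ℤ))
      exact hs.one_lt.ne' (Nat.dvd_one.mp h8))
  have hcomm : t * t' = t' * t := TT_comm hp t ht t' ht'
  have ho : ∀ y : ↥(D.group k), orderOf (z * y * z⁻¹) = orderOf y := fun y =>
    orderOf_injective (MulAut.conj z).toMonoidHom (MulAut.conj z).injective y
  refine conn_desc he0 hd (fix_conj hz h3) (fix_conj hz h3') ?_ hr hs ((ho t).trans h4) ((ho t').trans h4') hrd hsd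
  calc z * t * z⁻¹ * (z * t' * z⁻¹) = z * (t * t') * z⁻¹ := by group
    _ = z * (t' * t) * z⁻¹ := by rw [hcomm]
    _ = _ := by group

/-- **Connection with the characteristic.** -/
theorem conn_p_of_eig (hk : LocFin k) (he : 0 < e) (hσ : IsFrob p e σ)
    (F : Fr cs hp.isCartan (TT D k) (XX D l k) σ g) {d' : ℕ} {B' : Fin l → Fin l → ℤ} (hB : InvC D l d' B')
    (hd' : d' ≠ 0) (he0 : Function.Injective e0) {d : ℕ} (hd : ∀ y, σ y = y → y ^ d ∈ e0.range)
    {w : W} {Th : Fin l → Fin l → ℤ} (hw : ∀ j, rep cs hp.isCartan w (g (sr j)) = Th j)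
    {f : ℕ} {c : Fin (f + 1) → ℤ} {V : Fin (f + 1) → Fin l → ℤ} {U : Fin l → ℤ}
    (h : EigOK (fun i j => Th j i) c V U) (hc : c 0 = 1 ∨ c 0 = -1) {a : Fin l → ℤ} (ha : IsRoot cs hp.isCartan a)
    (hwa : rep cs hp.isCartan w (g a) = a) (hVa : ∀ i, ∑ m, a m * V i m = 0)
    {r : ℕ} (hr : r.Prime) (hrd : ¬ r ∣ d) (hpd : ¬ p ∣ d)
    (h1 : (r : ℤ) ∣ pv c ((p ^ e : ℕ) : ℤ)) : PG.Conn G0 r p := by
  obtain ⟨n, z, hz, hσ', F'⟩ := exists_z hp cs hk he hσ F w
  obtain ⟨t, ht, h3, h4, h5⟩ := exists_t hp cs hσ' F' hB hd' hr (ne_char hc Fact.out he h1) (hL_of_eig hp cs hw h h1)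
    (x₀ := U) (by
      rw [lam_unit h]
      intro h7
      have h8 := Int.natCast_dvd_natCast.mp (by simpa using h7 : (r : ℤ) ∣ ((1 : ℕ) : ℤ))
      exact hr.one_lt.ne' (Nat.dvd_one.mp h8))
  obtain ⟨x, hx1, hx2, hx3⟩ := exists_x hp cs hk he hσ' F' ha hwa
  have hcomm : t * x = x * t := hx3 t ht (h5 a (by rw [lam_zero hVa]; exact dvd_zero _))
  have ho : ∀ y : ↥(D.group k), orderOf (z * y * z⁻¹) = orderOf y := fun y =>
    orderOf_injective (MulAut.conj z).toMonoidHom (MulAut.conj z).injective y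
  refine conn_desc he0 hd (fix_conj hz h3) (fix_conj hz hx1) ?_ hr Fact.out ((ho t).trans h4) ((ho x).trans hx2) hrd hpd
  calc z * t * z⁻¹ * (z * x * z⁻¹) = z * (t * x) * z⁻¹ := by group
    _ = z * (x * t) * z⁻¹ := by rw [hcomm]
    _ = _ := by group

end Main

end Cfsg.Agent.H493.PGTwist
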