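import Cfsg.Agent.H493.PGTorus

/-!
# The values of the cyclotomic polynomials as `pv`
-/

set_option autoImplicit false
set_option linter.unusedSimpArgs false
set_option linter.unusedTactic false
set_option linter.unreachableTactic false
set_option linter.unnecessarySeqFocus false

namespace Cfsg.Agent.H493.PGCyc

open Cfsg.Agent.H493.PGTorus

/-- the lower coefficients of the cyclotomic polynomial of index 1 -/
def c1 : Fin 1 → ℤ := ![-1]

theorem pv_c1 (q : ℤ) : pv c1 q = q - 1 := by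
  (simp [pv, c1, Fin.sum_univ_succ]) <;> ring

/-- the lower coefficients of the cyclotomic polynomial of index 2 -/
def c2 : Fin 1 → ℤ := ![1]

theorem pv_c2 (q : ℤ) : pv c2 q = q + 1 := by
  (simp [pv, c2, Fin.sum_univ_succ]) <;> ring

/-- the lower coefficients of the cyclotomic polynomial of index 3 -/
def c3 : Fin 2 → ℤ := ![1, 1]

theorem pv_c3 (q : ℤ) : pv c3 q = q ^ 2 + q + 1 := by
  (simp [pv, c3, Fin.sum_univ_succ]) <;> ring

/-- the lower coefficients of the cyclotomic polynomial of index 4 -/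
def c4 : Fin 2 → ℤ := ![1, 0]

theorem pv_c4 (q : ℤ) : pv c4 q = q ^ 2 + 1 := by
  (simp [pv, c4, Fin.sum_univ_succ]) <;> ring

/-- the lower coefficients of the cyclotomic polynomial of index 5 -/
def c5 : Fin 4 → ℤ := ![1, 1, 1, 1]

theorem pv_c5 (q : ℤ) : pv c5 q = q ^ 4 + q ^ 3 + q ^ 2 + q + 1 := by
  (simp [pv, c5, Fin.sum_univ_succ]) <;> ring

/-- the lower coefficients of the cyclotomic polynomial of index 6 -/
def c6 : Fin 2 → ℤ := ![1, -1]

theorem pv_c6 (q : ℤ) : pv c6 q = q ^ 2 - q + 1 := by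
  (simp [pv, c6, Fin.sum_univ_succ]) <;> ring

/-- the lower coefficients of the cyclotomic polynomial of index 7 -/
def c7 : Fin 6 → ℤ := ![1, 1, 1, 1, 1, 1]

theorem pv_c7 (q : ℤ) : pv c7 q = q ^ 6 + q ^ 5 + q ^ 4 + q ^ 3 + q ^ 2 + q + 1 := by
  (simp [pv, c7, Fin.sum_univ_succ]) <;> ring

/-- the lower coefficients of the cyclotomic polynomial of index 8 -/
def c8 : Fin 4 → ℤ := ![1, 0, 0, 0]

theorem pv_c8 (q : ℤ) : pv c8 q = q ^ 4 + 1 := by
  (simp [pv, c8, Fin.sum_univ_succ]) <;> ring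

/-- the lower coefficients of the cyclotomic polynomial of index 9 -/
def c9 : Fin 6 → ℤ := ![1, 0, 0, 1, 0, 0]

theorem pv_c9 (q : ℤ) : pv c9 q = q ^ 6 + q ^ 3 + 1 := by
  (simp [pv, c9, Fin.sum_univ_succ]) <;> ring

/-- the lower coefficients of the cyclotomic polynomial of index 10 -/
def c10 : Fin 4 → ℤ := ![1, -1, 1, -1]

theorem pv_c10 (q : ℤ) : pv c10 q = q ^ 4 - q ^ 3 + q ^ 2 - q + 1 := by
  (simp [pv, c10, Fin.sum_univ_succ]) <;> ring

/-- the lower coefficients of the cyclotomic polynomial of index 12 -/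
def c12 : Fin 4 → ℤ := ![1, 0, -1, 0]

theorem pv_c12 (q : ℤ) : pv c12 q = q ^ 4 - q ^ 2 + 1 := by
  (simp [pv, c12, Fin.sum_univ_succ]) <;> ring

/-- the lower coefficients of the cyclotomic polynomial of index 14 -/
def c14 : Fin 6 → ℤ := ![1, -1, 1, -1, 1, -1]

theorem pv_c14 (q : ℤ) : pv c14 q = q ^ 6 - q ^ 5 + q ^ 4 - q ^ 3 + q ^ 2 - q + 1 := by
  (simp [pv, c14, Fin.sum_univ_succ]) <;> ring

/-- the lower coefficients of the cyclotomic polynomial of index 15 -/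
def c15 : Fin 8 → ℤ := ![1, -1, 0, 1, -1, 1, 0, -1]

theorem pv_c15 (q : ℤ) : pv c15 q = q ^ 8 - q ^ 7 + q ^ 5 - q ^ 4 + q ^ 3 - q + 1 := by
  (simp [pv, c15, Fin.sum_univ_succ]) <;> ring

/-- the lower coefficients of the cyclotomic polynomial of index 18 -/
def c18 : Fin 6 → ℤ := ![1, 0, 0, -1, 0, 0]

theorem pv_c18 (q : ℤ) : pv c18 q = q ^ 6 - q ^ 3 + 1 := by
  (simp [pv, c18, Fin.sum_univ_succ]) <;> ring

/-- the lower coefficients of the cyclotomic polynomial of index 20 -/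
def c20 : Fin 8 → ℤ := ![1, 0, -1, 0, 1, 0, -1, 0]

theorem pv_c20 (q : ℤ) : pv c20 q = q ^ 8 - q ^ 6 + q ^ 4 - q ^ 2 + 1 := by
  (simp [pv, c20, Fin.sum_univ_succ]) <;> ring

/-- the lower coefficients of the cyclotomic polynomial of index 24 -/
def c24 : Fin 8 → ℤ := ![1, 0, 0, 0, -1, 0, 0, 0]

theorem pv_c24 (q : ℤ) : pv c24 q = q ^ 8 - q ^ 4 + 1 := by
  (simp [pv, c24, Fin.sum_univ_succ]) <;> ring

/-- the lower coefficients of the cyclotomic polynomial of index 30 -/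
def c30 : Fin 8 → ℤ := ![1, 1, 0, -1, -1, -1, 0, 1]

theorem pv_c30 (q : ℤ) : pv c30 q = q ^ 8 + q ^ 7 - q ^ 5 - q ^ 4 - q ^ 3 + q + 1 := by
  (simp [pv, c30, Fin.sum_univ_succ]) <;> ring

end Cfsg.Agent.H493.PGCyc
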