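import Cfsg.Agent.H493.PGCyc
import Cfsg.Agent.S1092
import Cfsg.Agent.S1093

/-!
# Adjacency inside one cyclotomic torus, type E6
-/

set_option autoImplicit false

namespace Cfsg.Agent.H493.PGE6

open Cfsg.Agent.H129.WData Cfsg.Agent.ChevalleyStructure.CoxeterGeomTypes Cfsg.Agent.Nodes.RGDChev
open Cfsg.Lie Cfsg.Lie.ChevalleyDatum
open Cfsg.Agent.H493.PGTorus Cfsg.Agent.H493.PGCyc

universe u

/-- the Cartan matrix -/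
def Am : Mat 6 := ![![2, 0, -1, 0, 0, 0], ![0, 2, 0, -1, 0, 0], ![-1, 0, 2, -1, 0, 0], ![0, -1, -1, 2, -1, 0],
    ![0, 0, 0, -1, 2, -1], ![0, 0, 0, 0, -1, 2]]

theorem hA : ∀ i j, Am i j = cartanOf chevE6 6 i j := by decide +kernel

theorem hp : IsType chevE6 6 CoxeterMatrix.E₆ := by simp

theorem finW : Finite CoxeterMatrix.E₆.Group := by
  have hW : Nat.card CoxeterMatrix.E₆.Group = 51840 :=
    Cfsg.Agent.S1093.result (⟨6, CoxeterMatrix.E₆⟩, 51840) (by simp)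
  exact Nat.finite_of_card_ne_zero (by rw [hW]; norm_num)

/-- partial products of an element with characteristic polynomial divisible by the cyclotomic polynomial 9 -/
def chain9 : List (Fin 6 × Mat 6) := [
    (5, ![![-1, 0, -1, -1, -1, -1], ![0, 0, -1, 0, 0, 0], ![1, 1, 1, 1, 1, 1], ![0, -1, 0, -1, -1, -1],
      ![0, 1, 1, 2, 1, 1], ![0, 0, 0, 0, 1, 0]]),
    (4, ![![-1, 0, -1, -1, -1, 0], ![0, 0, -1, 0, 0, 0], ![1, 1, 1, 1, 1, 0], ![0, -1, 0, -1, -1, 0],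
      ![0, 1, 1, 2, 1, 0], ![0, 0, 0, 0, 1, 1]]),
    (3, ![![-1, 0, -1, -1, 0, 0], ![0, 0, -1, 0, 0, 0], ![1, 1, 1, 1, 0, 0], ![0, -1, 0, -1, 0, 0], ![0, 1, 1, 2, 1, 0],
      ![0, 0, 0, 0, 0, 1]]),
    (2, ![![-1, 0, -1, 0, 0, 0], ![0, 0, -1, -1, 0, 0], ![1, 1, 1, 1, 0, 0], ![0, -1, 0, 0, 0, 0], ![0, 1, 1, 1, 1, 0],
      ![0, 0, 0, 0, 0, 1]]),
    (1, ![![-1, 0, 0, 0, 0, 0], ![0, 0, 0, -1, 0, 0], ![1, 1, 1, 1, 0, 0], ![0, -1, 0, 0, 0, 0], ![0, 1, 0, 1, 1, 0],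
      ![0, 0, 0, 0, 0, 1]]),
    (3, ![![-1, 0, 0, 0, 0, 0], ![0, -1, 0, -1, 0, 0], ![1, 0, 1, 1, 0, 0], ![0, 1, 0, 0, 0, 0], ![0, 0, 0, 1, 1, 0],
      ![0, 0, 0, 0, 0, 1]]),
    (1, ![![-1, 0, 0, 0, 0, 0], ![0, -1, 0, 0, 0, 0], ![1, 0, 1, 0, 0, 0], ![0, 1, 0, 1, 0, 0], ![0, 0, 0, 0, 1, 0],
      ![0, 0, 0, 0, 0, 1]]),
    (0, ![![-1, 0, 0, 0, 0, 0], ![0, 1, 0, 0, 0, 0], ![1, 0, 1, 0, 0, 0], ![0, 0, 0, 1, 0, 0], ![0, 0, 0, 0, 1, 0],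
      ![0, 0, 0, 0, 0, 1]])]

theorem chain9_ok : ChainOK Am chain9 := by decide +kernel

/-- coefficients of the eigenvector -/
def V9 : Fin 6 → Fin 6 → ℤ := ![![-1, 0, -1, 0, 0, 0], ![0, 0, -1, -1, 0, 0], ![0, 0, 0, -1, -1, 0], ![-1, -1, -1, -1, -1, -1],
    ![0, 0, -1, 0, 0, 0], ![0, 1, 0, 0, 0, 0]]

/-- the functional -/
def U9 : Fin 6 → ℤ := ![-1, 0, 0, 0, 0, 1]

theorem eig9 : EigOK (hd chain9) c9 V9 U9 := by decide +kernel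

theorem conn9 {F : Type u} [Field F] [Finite F] {r s : ℕ} (hr : r.Prime) (hs : s.Prime)
    (hrd : ¬ r ∣ 3) (hsd : ¬ s ∣ 3) (h1 : (r : ℤ) ∣ pv c9 (Nat.card F)) (h2 : (s : ℤ) ∣ pv c9 (Nat.card F)) :
    PG.Conn ↥(chevE6.group F) r s := by
  have := finW
  exact conn_of_eig hp CoxeterMatrix.E₆.toCoxeterSystem H129.TorusChar.invC_E6 (by norm_num)
    (chain_rep hp CoxeterMatrix.E₆.toCoxeterSystem hA chain9_ok) eig9 eig9 hr hs hrd hsd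
    h1 h2

/-- partial products of an element with characteristic polynomial divisible by the cyclotomic polynomial 8 -/
def chain8 : List (Fin 6 × Mat 6) := [
    (0, ![![0, 0, 1, 1, 0, 0], ![0, -1, 0, -1, 0, 0], ![-1, 0, -1, -1, 0, 0], ![1, 1, 1, 2, 1, 0],
      ![0, 0, 0, -1, -1, 0], ![0, 0, 0, 1, 1, 1]]),
    (3, ![![1, 0, 1, 1, 0, 0], ![0, -1, 0, -1, 0, 0], ![0, 0, -1, -1, 0, 0], ![0, 1, 1, 2, 1, 0], ![0, 0, 0, -1, -1, 0],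
      ![0, 0, 0, 1, 1, 1]]),
    (4, ![![1, 0, 1, 0, 0, 0], ![0, -1, 0, 0, 0, 0], ![0, 0, -1, 0, 0, 0], ![0, 1, 1, 1, 1, 0], ![0, 0, 0, 0, -1, 0],
      ![0, 0, 0, 0, 1, 1]]),
    (1, ![![1, 0, 1, 0, 0, 0], ![0, -1, 0, 0, 0, 0], ![0, 0, -1, 0, 0, 0], ![0, 1, 1, 1, 0, 0], ![0, 0, 0, 0, 1, 0],
      ![0, 0, 0, 0, 0, 1]]),
    (2, ![![1, 0, 1, 0, 0, 0], ![0, 1, 0, 0, 0, 0], ![0, 0, -1, 0, 0, 0], ![0, 0, 1, 1, 0, 0], ![0, 0, 0, 0, 1, 0],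
      ![0, 0, 0, 0, 0, 1]])]

theorem chain8_ok : ChainOK Am chain8 := by decide +kernel

/-- coefficients of the eigenvector -/
def V8 : Fin 4 → Fin 6 → ℤ := ![![0, 0, -1, -1, 0, 0], ![-1, 0, 0, 0, 0, 0], ![1, 0, 1, 0, 0, 0], ![0, 1, 0, 1, 1, 0]]

/-- the functional -/
def U8 : Fin 6 → ℤ := ![0, 1, 0, -1, 0, 0]

theorem eig8 : EigOK (hd chain8) c8 V8 U8 := by decide +kernel

theorem conn8 {F : Type u} [Field F] [Finite F] {r s : ℕ} (hr : r.Prime) (hs : s.Prime)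
    (hrd : ¬ r ∣ 3) (hsd : ¬ s ∣ 3) (h1 : (r : ℤ) ∣ pv c8 (Nat.card F)) (h2 : (s : ℤ) ∣ pv c8 (Nat.card F)) :
    PG.Conn ↥(chevE6.group F) r s := by
  have := finW
  exact conn_of_eig hp CoxeterMatrix.E₆.toCoxeterSystem H129.TorusChar.invC_E6 (by norm_num)
    (chain_rep hp CoxeterMatrix.E₆.toCoxeterSystem hA chain8_ok) eig8 eig8 hr hs hrd hsd
    h1 h2

/-- partial products of an element with characteristic polynomial divisible by the cyclotomic polynomial 12 -/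
def chain12 : List (Fin 6 × Mat 6) := [
    (2, ![![-1, 0, -1, 0, 0, 0], ![0, 0, 1, 1, 0, 0], ![1, 1, 1, 1, 0, 0], ![0, 0, 0, 0, 1, 1],
      ![0, -1, -1, -1, -1, -1], ![0, 1, 1, 1, 1, 0]]),
    (1, ![![-1, 0, 0, 0, 0, 0], ![0, 0, 0, 1, 0, 0], ![1, 1, 1, 1, 0, 0], ![0, 0, 0, 0, 1, 1], ![0, -1, 0, -1, -1, -1],
      ![0, 1, 0, 1, 1, 0]]),
    (5, ![![-1, 0, 0, 0, 0, 0], ![0, 1, 0, 1, 0, 0], ![1, 0, 1, 1, 0, 0], ![0, 0, 0, 0, 1, 1], ![0, 0, 0, -1, -1, -1],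
      ![0, 0, 0, 1, 1, 0]]),
    (3, ![![-1, 0, 0, 0, 0, 0], ![0, 1, 0, 1, 0, 0], ![1, 0, 1, 1, 0, 0], ![0, 0, 0, 0, 1, 0], ![0, 0, 0, -1, -1, 0],
      ![0, 0, 0, 1, 1, 1]]),
    (4, ![![-1, 0, 0, 0, 0, 0], ![0, 1, 0, 0, 0, 0], ![1, 0, 1, 0, 0, 0], ![0, 0, 0, 1, 1, 0], ![0, 0, 0, 0, -1, 0],
      ![0, 0, 0, 0, 1, 1]]),
    (0, ![![-1, 0, 0, 0, 0, 0], ![0, 1, 0, 0, 0, 0], ![1, 0, 1, 0, 0, 0], ![0, 0, 0, 1, 0, 0], ![0, 0, 0, 0, 1, 0],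
      ![0, 0, 0, 0, 0, 1]])]

theorem chain12_ok : ChainOK Am chain12 := by decide +kernel

/-- coefficients of the eigenvector -/
def V12 : Fin 4 → Fin 6 → ℤ := ![![0, 1, 0, 1, 1, 0], ![1, 0, 1, 1, 1, 1], ![0, 0, 1, 1, 0, 0], ![0, 1, 0, 0, 0, 0]]

/-- the functional -/
def U12 : Fin 6 → ℤ := ![0, 0, -1, 1, 0, 0]

theorem eig12 : EigOK (hd chain12) c12 V12 U12 := by decide +kernel

theorem conn12 {F : Type u} [Field F] [Finite F] {r s : ℕ} (hr : r.Prime) (hs : s.Prime)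
    (hrd : ¬ r ∣ 3) (hsd : ¬ s ∣ 3) (h1 : (r : ℤ) ∣ pv c12 (Nat.card F)) (h2 : (s : ℤ) ∣ pv c12 (Nat.card F)) :
    PG.Conn ↥(chevE6.group F) r s := by
  have := finW
  exact conn_of_eig hp CoxeterMatrix.E₆.toCoxeterSystem H129.TorusChar.invC_E6 (by norm_num)
    (chain_rep hp CoxeterMatrix.E₆.toCoxeterSystem hA chain12_ok) eig12 eig12 hr hs hrd hsd
    h1 h2

end Cfsg.Agent.H493.PGE6
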