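import Cfsg.Agent.H493.PGTwist
import Cfsg.Agent.H493.PGCyc
import Cfsg.Agent.H493.PGCount
import Cfsg.Agent.H493.PGE6
import Cfsg.Agent.H493.TwE6Alg
import Cfsg.Agent.H129.WData
import Cfsg.Agent.S1066

/-!
# The prime graph of `²E₆(q)`

The primes `≠ 3` dividing `q Φ₁ Φ₂ Φ₃ Φ₄ Φ₆ Φ₁₀` are connected, so are those of `Φ₈`, of `Φ₁₂` and of `Φ₁₈`.
-/

set_option autoImplicit false

namespace Cfsg.Agent.H493.PGE6T

open Cfsg Cfsg.Lie Cfsg.Lie.ChevalleyDatum Cfsg.Agent.H129 Cfsg.Agent.H129.WData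
open Cfsg.Agent.ChevalleyStructure Cfsg.Agent.ChevalleyStructure.CoxeterGeom
  Cfsg.Agent.ChevalleyStructure.CoxeterGeomTypes
open Cfsg.Agent.Tits.Roots Cfsg.Agent.Nodes Cfsg.Agent.Nodes.Reps Cfsg.Agent.Nodes.RGDChev
  Cfsg.Agent.H129.TorusUntw Cfsg.Agent.H493.TwE6Alg Cfsg.Agent.BpExc.TowChev Cfsg.Agent.BpExc.Tow
open Cfsg.Agent.H493.PGTorus Cfsg.Agent.H493.PGCyc Cfsg.Agent.H493.PG

universe u

/-- the Cartan matrix -/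
def Am : Mat 6 := PGE6.Am

theorem hA : ∀ i j, Am i j = cartanOf chevE6 6 i j := PGE6.hA

/-- the closure -/
theorem setup {K : Type u} [Field K] [Fintype K] {q : ℕ} (hq : IsPrimePow q) (hK : Fintype.card K = q ^ 2) :
    ∃ (p e : ℕ) (_ : Fact p.Prime) (_ : CharP (AlgebraicClosure K) p), 0 < e ∧ q = p ^ e ∧
      LocFin (AlgebraicClosure K) := by
  obtain ⟨p, e', hpF, hpc, hpk, -, hpe, hk⟩ := exists_closure hK
  obtain ⟨p', e, hp', he, hqe'⟩ := id hq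
  have hpp : p' = p := by
    have h1 : p' ∣ p ^ e' := by
      rw [← hpe, ← hqe']
      exact dvd_pow (dvd_pow_self p' he.ne') (by norm_num)
    exact (Nat.prime_dvd_prime_iff_eq hp'.nat_prime hpF.out).1 (hp'.nat_prime.dvd_of_dvd_pow h1)
  subst hpp
  exact ⟨p', e, hpF, hpk, he, hqe'.symm, hk⟩

theorem lin {W : Type*} [Group W] (cs : CoxeterSystem CoxeterMatrix.E₆ W) {L : List (Fin 6 × Mat 6)}
    (hL : ChainOK Am L) {Th : Mat 6} (hTh : ∀ j, hd L (pi j) = Th j) (j : Fin 6) :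
    rep cs RGDTwE6.hp.isCartan (cs.wordProd (L.map Prod.fst)) (dua (sr j)) = Th j := by
  rw [dua_sr, WData.chain_rep RGDTwE6.hp cs hA hL, hTh]

section

variable {K : Type u} [Field K] [Fintype K] {q : ℕ} (hq : IsPrimePow q) (hK : Fintype.card K = q ^ 2)
  {L : List (Fin 6 × Mat 6)} (hL : ChainOK Am L) {Th : Mat 6} (hTh : ∀ j, hd L (pi j) = Th j)
  {f : ℕ} {c : Fin (f + 1) → ℤ} {V : Fin (f + 1) → Fin 6 → ℤ} {U : Fin 6 → ℤ}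
  (h : EigOK (fun i j => Th j i) c V U) (hc : c 0 = 1 ∨ c 0 = -1)

include hq hK hL hTh h hc

/-- two primes -/
theorem conn_gen {f' : ℕ} {c' : Fin (f' + 1) → ℤ} {V' : Fin (f' + 1) → Fin 6 → ℤ} {U' : Fin 6 → ℤ}
    (h' : EigOK (fun i j => Th j i) c' V' U') (hc' : c' 0 = 1 ∨ c' 0 = -1) {r s : ℕ} (hr : r.Prime) (hs : s.Prime)
    (hr3 : ¬ r ∣ Nat.gcd 3 (q + 1)) (hs3 : ¬ s ∣ Nat.gcd 3 (q + 1))
    (h1 : (r : ℤ) ∣ pv c q) (h2 : (s : ℤ) ∣ pv c' q) : Conn ↥(twistedE6 K q) r s := by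
  have := PGE6.finW
  obtain ⟨p, e, hpF, hpk, he, hqe, hk⟩ := setup hq hK
  have hqe' : (q : ℤ) = ((p ^ e : ℕ) : ℤ) := by rw [hqe]
  rw [hqe'] at h1 h2
  exact PGTwist.conn_of_eig RGDTwE6.hp CoxeterMatrix.E₆.toCoxeterSystem hk he isFrob_tau (fr_tau _)
    TorusChar.invC_E6 (by norm_num) (embT_injective (algebraMap K (AlgebraicClosure K)) q) (d := Nat.gcd 3 (q + 1))
    (fun y hy => tau_pow _ hqe hq hK hy) (lin _ hL hTh) h hc h' hc' hr hs hr3 hs3 h1 h2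

/-- the characteristic -/
theorem conn_p_gen {r₀ : ℕ} (hr₀ : r₀ < 72)
    (hfix : ∀ m, ∑ j, vec chevE6 6 r₀ j * Th j m = vec chevE6 6 r₀ m)
    (hV : ∀ i, ∑ m, vec chevE6 6 r₀ m * V i m = 0) {r s : ℕ} (hr : r.Prime) (hs : s.Prime)
    (hr3 : ¬ r ∣ Nat.gcd 3 (q + 1)) (h1 : (r : ℤ) ∣ pv c q) (h2 : s ∣ q) : Conn ↥(twistedE6 K q) r s := by
  have := PGE6.finW
  obtain ⟨p, e, hpF, hpk, he, hqe, hk⟩ := setup hq hK
  have hqe' : (q : ℤ) = ((p ^ e : ℕ) : ℤ) := by rw [hqe]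
  rw [hqe'] at h1
  have hsp : s = p := (Nat.prime_dvd_prime_iff_eq hs hpF.out).1 (hs.dvd_of_dvd_pow (hqe ▸ h2))
  subst hsp
  have hroot := (isRoot_iff RGDTwE6.hp CoxeterMatrix.E₆.toCoxeterSystem (vec chevE6 6 r₀)).2 ⟨r₀, hr₀, rfl⟩
  have hlin := lin CoxeterMatrix.E₆.toCoxeterSystem hL hTh
  have hs3 : ¬ s ∣ Nat.gcd 3 (q + 1) := by
    intro h3
    have h4 : s ∣ q + 1 := h3.trans (Nat.gcd_dvd_right _ _)
    exact hs.one_lt.ne' (Nat.dvd_one.1 ((Nat.dvd_add_right h2).1 h4))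
  refine PGTwist.conn_p_of_eig RGDTwE6.hp CoxeterMatrix.E₆.toCoxeterSystem hk he isFrob_tau (fr_tau _)
    TorusChar.invC_E6 (by norm_num) (embT_injective (algebraMap K (AlgebraicClosure K)) q) (d := Nat.gcd 3 (q + 1))
    (fun y hy => tau_pow _ hqe hq hK hy) hlin h hc hroot ?_ hV hr hr3 hs3 h1
  funext m
  rw [← hfix m]
  have h3 : vec chevE6 6 r₀ = ∑ j, vec chevE6 6 r₀ j • sr j := TorusChar.IsMC.eq_sum_sr _
  conv_lhs => rw [h3]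
  rw [map_sum, map_sum, Finset.sum_apply]
  refine Finset.sum_congr rfl fun j _ => ?_
  rw [map_zsmul, map_zsmul, hlin, Pi.smul_apply, smul_eq_mul]

end

/-- the number of the highest root -/
def r0 : ℕ := 71

theorem r0_ok : vec chevE6 6 r0 = ![1, 2, 2, 3, 2, 1] := by decide +kernel

/-- partial products -/
def chainA : List (Fin 6 × Mat 6) := []

theorem chainA_ok : ChainOK Am chainA := by decide +kernel

/-- the matrix of the twisted element -/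
def ThA : Mat 6 := ![![0, 0, 0, 0, 0, 1], ![0, 1, 0, 0, 0, 0], ![0, 0, 0, 0, 1, 0], ![0, 0, 0, 1, 0, 0], ![0, 0, 1, 0, 0, 0],
    ![1, 0, 0, 0, 0, 0]]

theorem hThA : ∀ j, hd chainA (pi j) = ThA j := by decide +kernel

theorem fixA : ∀ m, ∑ j, vec chevE6 6 r0 j * ThA j m = vec chevE6 6 r0 m := by decide +kernel

/-- coefficients of the functional, cyclotomic polynomial 1 -/
def VA_1 : Fin 1 → Fin 6 → ℤ := ![![1, -1, 0, 0, 0, 1]]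

theorem eigA_1 : EigOK (fun i j => ThA j i) c1 VA_1 ![1, 0, 0, 0, 0, 0] := by decide +kernel

theorem vanA_1 : ∀ i, ∑ m, vec chevE6 6 r0 m * VA_1 i m = 0 := by decide +kernel

/-- coefficients of the functional, cyclotomic polynomial 2 -/
def VA_2 : Fin 1 → Fin 6 → ℤ := ![![0, 0, -1, 0, 1, 0]]

theorem eigA_2 : EigOK (fun i j => ThA j i) c2 VA_2 ![0, 0, -1, 0, 0, 0] := by decide +kernel

theorem vanA_2 : ∀ i, ∑ m, vec chevE6 6 r0 m * VA_2 i m = 0 := by decide +kernel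

/-- partial products -/
def chainB : List (Fin 6 × Mat 6) := [
    (4, ![![-1, 0, 0, 0, 0, 0], ![0, 1, 0, 0, 0, 0], ![1, 0, 1, 0, 0, 0], ![0, 0, 0, 1, 1, 0], ![0, 0, 0, 0, -1, 0],
      ![0, 0, 0, 0, 1, 1]]),
    (0, ![![-1, 0, 0, 0, 0, 0], ![0, 1, 0, 0, 0, 0], ![1, 0, 1, 0, 0, 0], ![0, 0, 0, 1, 0, 0], ![0, 0, 0, 0, 1, 0],
      ![0, 0, 0, 0, 0, 1]])]

theorem chainB_ok : ChainOK Am chainB := by decide +kernel

/-- the matrix of the twisted element -/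
def ThB : Mat 6 := ![![0, 0, 0, 0, 1, 1], ![0, 1, 0, 0, 0, 0], ![0, 0, 0, 0, -1, 0], ![0, 0, 0, 1, 1, 0], ![1, 0, 1, 0, 0, 0],
    ![-1, 0, 0, 0, 0, 0]]

theorem hThB : ∀ j, hd chainB (pi j) = ThB j := by decide +kernel

theorem fixB : ∀ m, ∑ j, vec chevE6 6 r0 j * ThB j m = vec chevE6 6 r0 m := by decide +kernel

/-- coefficients of the functional, cyclotomic polynomial 3 -/
def VB_3 : Fin 2 → Fin 6 → ℤ := ![![1, 0, -2, 1, -1, 2], ![-1, 0, -1, 0, 1, 1]]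

theorem eigB_3 : EigOK (fun i j => ThB j i) c3 VB_3 ![0, 0, 0, 1, 0, 0] := by decide +kernel

theorem vanB_3 : ∀ i, ∑ m, vec chevE6 6 r0 m * VB_3 i m = 0 := by decide +kernel

/-- coefficients of the functional, cyclotomic polynomial 6 -/
def VB_6 : Fin 2 → Fin 6 → ℤ := ![![0, 0, -1, 1, 0, -1], ![1, 0, 0, -1, 1, 0]]

theorem eigB_6 : EigOK (fun i j => ThB j i) c6 VB_6 ![0, 0, -1, 0, 0, 0] := by decide +kernel

theorem vanB_6 : ∀ i, ∑ m, vec chevE6 6 r0 m * VB_6 i m = 0 := by decide +kernel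

/-- partial products -/
def chainC : List (Fin 6 × Mat 6) := [
    (0, ![![-1, 0, 0, 0, 0, 0], ![0, 1, 0, 0, 0, 0], ![1, 0, 1, 0, 0, 0], ![0, 0, 0, 1, 0, 0], ![0, 0, 0, 0, 1, 0],
      ![0, 0, 0, 0, 0, 1]])]

theorem chainC_ok : ChainOK Am chainC := by decide +kernel

/-- the matrix of the twisted element -/
def ThC : Mat 6 := ![![0, 0, 0, 0, 0, 1], ![0, 1, 0, 0, 0, 0], ![0, 0, 0, 0, 1, 0], ![0, 0, 0, 1, 0, 0], ![1, 0, 1, 0, 0, 0],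
    ![-1, 0, 0, 0, 0, 0]]

theorem hThC : ∀ j, hd chainC (pi j) = ThC j := by decide +kernel

theorem fixC : ∀ m, ∑ j, vec chevE6 6 r0 j * ThC j m = vec chevE6 6 r0 m := by decide +kernel

/-- coefficients of the functional, cyclotomic polynomial 4 -/
def VC_4 : Fin 2 → Fin 6 → ℤ := ![![-2, 0, 1, 0, 0, 0], ![0, 0, 0, 0, 1, -2]]

theorem eigC_4 : EigOK (fun i j => ThC j i) c4 VC_4 ![0, 0, 1, 0, 0, 0] := by decide +kernel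

theorem vanC_4 : ∀ i, ∑ m, vec chevE6 6 r0 m * VC_4 i m = 0 := by decide +kernel

/-- partial products -/
def chainD : List (Fin 6 × Mat 6) := [
    (3, ![![-1, 0, 0, 0, 0, 0], ![0, 1, 0, 1, 0, 0], ![1, 0, 1, 1, 0, 0], ![0, 0, 0, 0, 1, 0], ![0, 0, 0, -1, -1, 0],
      ![0, 0, 0, 1, 1, 1]]),
    (4, ![![-1, 0, 0, 0, 0, 0], ![0, 1, 0, 0, 0, 0], ![1, 0, 1, 0, 0, 0], ![0, 0, 0, 1, 1, 0], ![0, 0, 0, 0, -1, 0],
      ![0, 0, 0, 0, 1, 1]]),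
    (0, ![![-1, 0, 0, 0, 0, 0], ![0, 1, 0, 0, 0, 0], ![1, 0, 1, 0, 0, 0], ![0, 0, 0, 1, 0, 0], ![0, 0, 0, 0, 1, 0],
      ![0, 0, 0, 0, 0, 1]])]

theorem chainD_ok : ChainOK Am chainD := by decide +kernel

/-- the matrix of the twisted element -/
def ThD : Mat 6 := ![![0, 0, 0, 1, 1, 1], ![0, 1, 0, 1, 0, 0], ![0, 0, 0, -1, -1, 0], ![0, 0, 0, 0, 1, 0], ![1, 0, 1, 1, 0, 0],
    ![-1, 0, 0, 0, 0, 0]]

theorem hThD : ∀ j, hd chainD (pi j) = ThD j := by decide +kernel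

theorem fixD : ∀ m, ∑ j, vec chevE6 6 r0 j * ThD j m = vec chevE6 6 r0 m := by decide +kernel

/-- coefficients of the functional, cyclotomic polynomial 10 -/
def VD_10 : Fin 4 → Fin 6 → ℤ := ![![1, 1, -1, 0, 0, -1], ![0, -1, -1, 1, 0, 1], ![0, 0, 0, 0, 1, -2], ![1, -1, 0, 0, 0, 1]]

theorem eigD_10 : EigOK (fun i j => ThD j i) c10 VD_10 ![1, 1, 1, 2, 0, 0] := by decide +kernel

theorem vanD_10 : ∀ i, ∑ m, vec chevE6 6 r0 m * VD_10 i m = 0 := by decide +kernel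

/-- partial products -/
def chainE : List (Fin 6 × Mat 6) := [
    (2, ![![1, 0, 1, 0, 0, 0], ![0, 0, 1, 1, 0, 0], ![0, 1, 0, 1, 0, 0], ![0, -1, -1, -1, 0, 0], ![0, 1, 1, 1, 1, 0],
      ![0, 0, 0, 0, 0, 1]]),
    (1, ![![1, 0, 0, 0, 0, 0], ![0, 0, 0, 1, 0, 0], ![0, 1, 1, 1, 0, 0], ![0, -1, 0, -1, 0, 0], ![0, 1, 0, 1, 1, 0],
      ![0, 0, 0, 0, 0, 1]]),
    (3, ![![1, 0, 0, 0, 0, 0], ![0, 1, 0, 1, 0, 0], ![0, 0, 1, 1, 0, 0], ![0, 0, 0, -1, 0, 0], ![0, 0, 0, 1, 1, 0],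
      ![0, 0, 0, 0, 0, 1]])]

theorem chainE_ok : ChainOK Am chainE := by decide +kernel

/-- the matrix of the twisted element -/
def ThE : Mat 6 := ![![0, 0, 0, 0, 0, 1], ![0, 0, 1, 1, 0, 0], ![0, 1, 1, 1, 1, 0], ![0, -1, -1, -1, 0, 0], ![0, 1, 0, 1, 0, 0],
    ![1, 0, 1, 0, 0, 0]]

theorem hThE : ∀ j, hd chainE (pi j) = ThE j := by decide +kernel

/-- coefficients of the functional, cyclotomic polynomial 8 -/
def VE_8 : Fin 4 → Fin 6 → ℤ := ![![-1, -1, 1, 1, -1, 0], ![0, 0, 0, -1, 2, -1], ![0, 1, -1, 1, -1, 0], ![0, -2, 0, 1, 0, 0]]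

theorem eigE_8 : EigOK (fun i j => ThE j i) c8 VE_8 ![-1, 0, 0, 0, 0, 0] := by decide +kernel

/-- coefficients of the functional, cyclotomic polynomial 1 -/
def VE_1 : Fin 1 → Fin 6 → ℤ := ![![1, 0, 0, 0, 0, 1]]

theorem eigE_1 : EigOK (fun i j => ThE j i) c1 VE_1 ![1, 0, 0, 0, 0, 0] := by decide +kernel

/-- coefficients of the functional, cyclotomic polynomial 2 -/
def VE_2 : Fin 1 → Fin 6 → ℤ := ![![-1, 0, 0, 0, 0, 1]]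

theorem eigE_2 : EigOK (fun i j => ThE j i) c2 VE_2 ![-1, 0, 0, 0, 0, 0] := by decide +kernel

/-- partial products -/
def chainF : List (Fin 6 × Mat 6) := [
    (2, ![![0, 1, 0, 1, 0, 0], ![1, 0, 1, 1, 0, 0], ![0, -1, -1, -1, 0, 0], ![-1, 0, 0, 0, 0, 0], ![1, 1, 1, 1, 1, 0],
      ![0, 0, 0, 0, 0, 1]]),
    (1, ![![0, 1, 1, 1, 0, 0], ![1, 0, 1, 1, 0, 0], ![0, -1, 0, -1, 0, 0], ![-1, 0, -1, 0, 0, 0], ![1, 1, 1, 1, 1, 0],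
      ![0, 0, 0, 0, 0, 1]]),
    (3, ![![0, 0, 1, 1, 0, 0], ![1, 1, 1, 1, 0, 0], ![0, 0, 0, -1, 0, 0], ![-1, 0, -1, 0, 0, 0], ![1, 0, 1, 1, 1, 0],
      ![0, 0, 0, 0, 0, 1]]),
    (0, ![![0, 0, 1, 0, 0, 0], ![1, 1, 1, 1, 0, 0], ![0, 0, 0, 1, 0, 0], ![-1, 0, -1, -1, 0, 0], ![1, 0, 1, 1, 1, 0],
      ![0, 0, 0, 0, 0, 1]]),
    (2, ![![1, 0, 1, 0, 0, 0], ![0, 1, 1, 1, 0, 0], ![0, 0, 0, 1, 0, 0], ![0, 0, -1, -1, 0, 0], ![0, 0, 1, 1, 1, 0],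
      ![0, 0, 0, 0, 0, 1]]),
    (3, ![![1, 0, 0, 0, 0, 0], ![0, 1, 0, 1, 0, 0], ![0, 0, 1, 1, 0, 0], ![0, 0, 0, -1, 0, 0], ![0, 0, 0, 1, 1, 0],
      ![0, 0, 0, 0, 0, 1]])]

theorem chainF_ok : ChainOK Am chainF := by decide +kernel

/-- the matrix of the twisted element -/
def ThF : Mat 6 := ![![0, 0, 0, 0, 0, 1], ![1, 0, 1, 1, 0, 0], ![1, 1, 1, 1, 1, 0], ![-1, 0, 0, 0, 0, 0], ![0, -1, -1, -1, 0, 0],
    ![0, 1, 0, 1, 0, 0]]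

theorem hThF : ∀ j, hd chainF (pi j) = ThF j := by decide +kernel

/-- coefficients of the functional, cyclotomic polynomial 12 -/
def VF_12 : Fin 4 → Fin 6 → ℤ := ![![0, 1, 0, -1, 0, 0], ![1, 0, 0, 0, -1, 0], ![0, 0, 1, 0, -1, 1], ![0, 1, 0, 0, 0, 0]]

theorem eigF_12 : EigOK (fun i j => ThF j i) c12 VF_12 ![0, 0, 0, -1, 0, 0] := by decide +kernel

/-- coefficients of the functional, cyclotomic polynomial 6 -/
def VF_6 : Fin 2 → Fin 6 → ℤ := ![![-1, 0, 1, 0, 0, -1], ![1, 0, 0, -1, 1, 0]]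

theorem eigF_6 : EigOK (fun i j => ThF j i) c6 VF_6 ![0, 0, 1, 0, 0, 0] := by decide +kernel

/-- partial products -/
def chainG : List (Fin 6 × Mat 6) := [
    (2, ![![1, 0, 1, 0, 0, 0], ![0, -1, -1, -1, 0, 0], ![0, 0, 0, 1, 0, 0], ![0, 1, 0, 0, 0, 0], ![0, 0, 1, 1, 1, 1],
      ![0, 0, 0, 0, 0, -1]]),
    (3, ![![1, 0, 0, 0, 0, 0], ![0, -1, 0, -1, 0, 0], ![0, 0, 1, 1, 0, 0], ![0, 1, 0, 0, 0, 0], ![0, 0, 0, 1, 1, 1],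
      ![0, 0, 0, 0, 0, -1]]),
    (1, ![![1, 0, 0, 0, 0, 0], ![0, -1, 0, 0, 0, 0], ![0, 0, 1, 0, 0, 0], ![0, 1, 0, 1, 0, 0], ![0, 0, 0, 0, 1, 1],
      ![0, 0, 0, 0, 0, -1]]),
    (5, ![![1, 0, 0, 0, 0, 0], ![0, 1, 0, 0, 0, 0], ![0, 0, 1, 0, 0, 0], ![0, 0, 0, 1, 0, 0], ![0, 0, 0, 0, 1, 1],
      ![0, 0, 0, 0, 0, -1]])]

theorem chainG_ok : ChainOK Am chainG := by decide +kernel

/-- the matrix of the twisted element -/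
def ThG : Mat 6 := ![![0, 0, 0, 0, 0, -1], ![0, -1, -1, -1, 0, 0], ![0, 0, 1, 1, 1, 1], ![0, 1, 0, 0, 0, 0], ![0, 0, 0, 1, 0, 0],
    ![1, 0, 1, 0, 0, 0]]

theorem hThG : ∀ j, hd chainG (pi j) = ThG j := by decide +kernel

/-- coefficients of the functional, cyclotomic polynomial 18 -/
def VG_18 : Fin 6 → Fin 6 → ℤ := ![![0, 0, 0, 0, -1, 1], ![0, 0, 1, -1, 0, 0], ![-1, -1, 1, 0, 0, 0], ![-1, 0, 1, 0, 0, 0], ![0, 0, 0, 0, 0, 1],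
    ![1, 0, 0, 0, 0, 0]]

theorem eigG_18 : EigOK (fun i j => ThG j i) c18 VG_18 ![0, 0, 0, 0, -1, 0] := by decide +kernel

/-- divisors of the order -/
theorem cover {q r : ℕ} (hq : 2 ≤ q) (hr : r.Prime)
    (h : r ∣ q ^ 36 * (q ^ 2 - 1) * (q ^ 5 + 1) * (q ^ 6 - 1) * (q ^ 8 - 1) * (q ^ 9 + 1) * (q ^ 12 - 1)) :
    (r ∣ q ∨ (r : ℤ) ∣ pv c1 q ∨ (r : ℤ) ∣ pv c2 q ∨ (r : ℤ) ∣ pv c3 q ∨ (r : ℤ) ∣ pv c4 q ∨ (r : ℤ) ∣ pv c6 q ∨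
      (r : ℤ) ∣ pv c10 q) ∨ (r : ℤ) ∣ pv c8 q ∨ (r : ℤ) ∣ pv c12 q ∨ (r : ℤ) ∣ pv c18 q := by
  have h2 : 1 ≤ q ^ 2 := Nat.one_le_pow _ _ (by omega)
  have h6 : 1 ≤ q ^ 6 := Nat.one_le_pow _ _ (by omega)
  have h8 : 1 ≤ q ^ 8 := Nat.one_le_pow _ _ (by omega)
  have h12 : 1 ≤ q ^ 12 := Nat.one_le_pow _ _ (by omega)
  have hr' : Prime (r : ℤ) := Nat.prime_iff_prime_int.1 hr
  have h1 := Int.natCast_dvd_natCast.2 h
  push_cast [Nat.cast_sub h2, Nat.cast_sub h6, Nat.cast_sub h8, Nat.cast_sub h12] at h1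
  have e : (q : ℤ) ^ 36 * ((q : ℤ) ^ 2 - 1) * ((q : ℤ) ^ 5 + 1) * ((q : ℤ) ^ 6 - 1) * ((q : ℤ) ^ 8 - 1) *
      ((q : ℤ) ^ 9 + 1) * ((q : ℤ) ^ 12 - 1) =
      (q : ℤ) ^ 36 * (pv c1 q * pv c2 q) * (pv c2 q * pv c10 q) * (pv c1 q * pv c2 q * pv c3 q * pv c6 q) *
        (pv c1 q * pv c2 q * pv c4 q * pv c8 q) * (pv c2 q * pv c6 q * pv c18 q) *
        (pv c1 q * pv c2 q * pv c3 q * pv c4 q * pv c6 q * pv c12 q) := by
    rw [pv_c1, pv_c2, pv_c3, pv_c4, pv_c6, pv_c8, pv_c10, pv_c12, pv_c18]; ring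
  rw [e] at h1
  simp only [hr'.dvd_mul] at h1
  by_cases h0 : (r : ℤ) ∣ (q : ℤ) ^ 36
  · exact Or.inl (Or.inl (Int.natCast_dvd_natCast.1 (hr'.dvd_of_dvd_pow h0)))
  · tauto

section

variable {K : Type u} [Field K] [Fintype K] {q : ℕ} (hq : IsPrimePow q) (hK : Fintype.card K = q ^ 2)

include hq hK

theorem natCard_ne_of {r : ℕ} (hr : r.Prime) (h3 : r ≠ 3) : ¬ r ∣ Nat.gcd 3 (q + 1) := fun h =>
  h3 ((Nat.prime_dvd_prime_iff_eq hr Nat.prime_three).1 (h.trans (Nat.gcd_dvd_left _ _)))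

/-- the main component -/
theorem conn_main {r p : ℕ} (hr : r.Prime) (hp : p.Prime) (hpq : p ∣ q) (hr3 : r ≠ 3)
    (h : r ∣ q ∨ (r : ℤ) ∣ pv c1 q ∨ (r : ℤ) ∣ pv c2 q ∨ (r : ℤ) ∣ pv c3 q ∨ (r : ℤ) ∣ pv c4 q ∨
      (r : ℤ) ∣ pv c6 q ∨ (r : ℤ) ∣ pv c10 q) : Conn ↥(twistedE6 K q) r p := by
  have h3 := natCard_ne_of hq hK hr hr3
  rcases h with h | h | h | h | h | h | h
  · obtain ⟨p', n, hp', hn, hpn⟩ := id hq
    have e1 : ∀ s : ℕ, s.Prime → s ∣ q → s = p' := fun s hs h => by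
      rw [← hpn] at h
      exact (Nat.prime_dvd_prime_iff_eq hs hp'.nat_prime).1 (hs.dvd_of_dvd_pow h)
    rw [e1 r hr h, e1 p hp hpq]
    exact Conn.refl _
  · exact conn_p_gen hq hK chainA_ok hThA eigA_1 (by decide) (by decide) fixA vanA_1 hr hp h3 h hpq
  · exact conn_p_gen hq hK chainA_ok hThA eigA_2 (by decide) (by decide) fixA vanA_2 hr hp h3 h hpq
  · exact conn_p_gen hq hK chainB_ok hThB eigB_3 (by decide) (by decide) fixB vanB_3 hr hp h3 h hpq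
  · exact conn_p_gen hq hK chainC_ok hThC eigC_4 (by decide) (by decide) fixC vanC_4 hr hp h3 h hpq
  · exact conn_p_gen hq hK chainB_ok hThB eigB_6 (by decide) (by decide) fixB vanB_6 hr hp h3 h hpq
  · exact conn_p_gen hq hK chainD_ok hThD eigD_10 (by decide) (by decide) fixD vanD_10 hr hp h3 h hpq

theorem conn8 {r s : ℕ} (hr : r.Prime) (hs : s.Prime) (hr3 : r ≠ 3) (hs3 : s ≠ 3) (h1 : (r : ℤ) ∣ pv c8 q)
    (h2 : (s : ℤ) ∣ pv c8 q) : Conn ↥(twistedE6 K q) r s :=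
  conn_gen hq hK chainE_ok hThE eigE_8 (by decide) eigE_8 (by decide) hr hs (natCard_ne_of hq hK hr hr3)
    (natCard_ne_of hq hK hs hs3) h1 h2

theorem conn8_1 {r s : ℕ} (hr : r.Prime) (hs : s.Prime) (hr3 : r ≠ 3) (hs3 : s ≠ 3) (h1 : (r : ℤ) ∣ pv c8 q)
    (h2 : (s : ℤ) ∣ pv c1 q) : Conn ↥(twistedE6 K q) r s :=
  conn_gen hq hK chainE_ok hThE eigE_8 (by decide) eigE_1 (by decide) hr hs (natCard_ne_of hq hK hr hr3)
    (natCard_ne_of hq hK hs hs3) h1 h2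

theorem conn8_2 {r s : ℕ} (hr : r.Prime) (hs : s.Prime) (hr3 : r ≠ 3) (hs3 : s ≠ 3) (h1 : (r : ℤ) ∣ pv c8 q)
    (h2 : (s : ℤ) ∣ pv c2 q) : Conn ↥(twistedE6 K q) r s :=
  conn_gen hq hK chainE_ok hThE eigE_8 (by decide) eigE_2 (by decide) hr hs (natCard_ne_of hq hK hr hr3)
    (natCard_ne_of hq hK hs hs3) h1 h2

theorem conn12 {r s : ℕ} (hr : r.Prime) (hs : s.Prime) (hr3 : r ≠ 3) (hs3 : s ≠ 3) (h1 : (r : ℤ) ∣ pv c12 q)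
    (h2 : (s : ℤ) ∣ pv c12 q) : Conn ↥(twistedE6 K q) r s :=
  conn_gen hq hK chainF_ok hThF eigF_12 (by decide) eigF_12 (by decide) hr hs (natCard_ne_of hq hK hr hr3)
    (natCard_ne_of hq hK hs hs3) h1 h2

theorem conn12_6 {r s : ℕ} (hr : r.Prime) (hs : s.Prime) (hr3 : r ≠ 3) (hs3 : s ≠ 3) (h1 : (r : ℤ) ∣ pv c12 q)
    (h2 : (s : ℤ) ∣ pv c6 q) : Conn ↥(twistedE6 K q) r s :=
  conn_gen hq hK chainF_ok hThF eigF_12 (by decide) eigF_6 (by decide) hr hs (natCard_ne_of hq hK hr hr3)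
    (natCard_ne_of hq hK hs hs3) h1 h2

theorem conn18 {r s : ℕ} (hr : r.Prime) (hs : s.Prime) (hr3 : r ≠ 3) (hs3 : s ≠ 3) (h1 : (r : ℤ) ∣ pv c18 q)
    (h2 : (s : ℤ) ∣ pv c18 q) : Conn ↥(twistedE6 K q) r s :=
  conn_gen hq hK chainG_ok hThG eigG_18 (by decide) eigG_18 (by decide) hr hs (natCard_ne_of hq hK hr hr3)
    (natCard_ne_of hq hK hs hs3) h1 h2

/-- at most five classes -/
theorem few_tw : Few 6 ↥(twistedE6 K q) := by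
  obtain ⟨p, n, hp, hn, hpn⟩ := id hq
  have hp := hp.nat_prime
  have hpq : p ∣ q := hpn ▸ dvd_pow_self p hn.ne'
  let C : Fin 5 → ℕ → Prop := ![fun r => r = 3, fun r => r ≠ 3 ∧ (r ∣ q ∨ (r : ℤ) ∣ pv c1 q ∨ (r : ℤ) ∣ pv c2 q ∨
    (r : ℤ) ∣ pv c3 q ∨ (r : ℤ) ∣ pv c4 q ∨ (r : ℤ) ∣ pv c6 q ∨ (r : ℤ) ∣ pv c10 q),
    fun r => r ≠ 3 ∧ (r : ℤ) ∣ pv c8 q, fun r => r ≠ 3 ∧ (r : ℤ) ∣ pv c12 q, fun r => r ≠ 3 ∧ (r : ℤ) ∣ pv c18 q]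
  refine few_of_cover (k := 5) (by norm_num) C ?_ ?_
  · intro r hr hrG
    by_cases h3 : r = 3
    · exact ⟨0, h3⟩
    have h1 : r ∣ q ^ 36 * (q ^ 2 - 1) * (q ^ 5 + 1) * (q ^ 6 - 1) * (q ^ 8 - 1) * (q ^ 9 + 1) * (q ^ 12 - 1) := by
      rw [← Cfsg.Agent.S1066.result hq hK]
      exact hrG.mul_left _
    rcases cover hq.two_le hr h1 with h | h | h | h
    · exact ⟨1, h3, h⟩
    · exact ⟨2, h3, h⟩
    · exact ⟨3, h3, h⟩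
    · exact ⟨4, h3, h⟩
  · intro i r s hr hs _ _ h1 h2
    fin_cases i
    · have h1 : r = 3 := h1
      have h2 : s = 3 := h2
      rw [h1, h2]
      exact Conn.refl _
    · exact (conn_main hq hK hr hp hpq h1.1 h1.2).trans (conn_main hq hK hs hp hpq h2.1 h2.2).symm
    · exact conn8 hq hK hr hs h1.1 h2.1 h1.2 h2.2
    · exact conn12 hq hK hr hs h1.1 h2.1 h1.2 h2.2
    · exact conn18 hq hK hr hs h1.1 h2.1 h1.2 h2.2

end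

/-- **The prime graph of `²E₆(q)` has at most five components.** -/
theorem few_iso2E6 {G : Type*} [Group G] (hG : Iso2E6 G) : Few 6 G := by
  obtain ⟨K, _, _, q, hq, hK, ⟨e⟩⟩ := hG
  exact Few.congr e.symm (few_tw hq hK)

end Cfsg.Agent.H493.PGE6T
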