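import Cfsg.Agent.H493.PGCyc
import Cfsg.Agent.S1092
import Cfsg.Agent.S1093

/-!
# Adjacency inside one cyclotomic torus, type E7
-/

set_option autoImplicit false

namespace Cfsg.Agent.H493.PGE7

open Cfsg.Agent.H129.WData Cfsg.Agent.ChevalleyStructure.CoxeterGeomTypes Cfsg.Agent.Nodes.RGDChev
open Cfsg.Lie Cfsg.Lie.ChevalleyDatum
open Cfsg.Agent.H493.PGTorus Cfsg.Agent.H493.PGCyc

universe u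

/-- the Cartan matrix -/
def Am : Mat 7 := ![![2, 0, -1, 0, 0, 0, 0], ![0, 2, 0, -1, 0, 0, 0], ![-1, 0, 2, -1, 0, 0, 0], ![0, -1, -1, 2, -1, 0, 0],
    ![0, 0, 0, -1, 2, -1, 0], ![0, 0, 0, 0, -1, 2, -1], ![0, 0, 0, 0, 0, -1, 2]]

theorem hA : ∀ i j, Am i j = cartanOf chevE7 7 i j := by decide +kernel

theorem hp : IsType chevE7 7 CoxeterMatrix.E₇ := by simp

theorem finW : Finite CoxeterMatrix.E₇.Group := by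
  have hW : Nat.card CoxeterMatrix.E₇.Group = 2903040 :=
    Cfsg.Agent.S1093.result (⟨7, CoxeterMatrix.E₇⟩, 2903040) (by simp)
  exact Nat.finite_of_card_ne_zero (by rw [hW]; norm_num)

/-- partial products of an element with characteristic polynomial divisible by the cyclotomic polynomial 7 -/
def chain7 : List (Fin 7 × Mat 7) := [
    (0, ![![0, 0, 1, 1, 0, 0, 0], ![0, 1, 0, 1, 0, 0, 0], ![-1, 0, -1, -1, 0, 0, 0], ![1, 0, 1, 1, 1, 1, 0],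
      ![0, 0, 0, -1, -1, -1, 0], ![0, 0, 0, 1, 1, 1, 1], ![0, 0, 0, 0, 0, -1, -1]]),
    (5, ![![1, 0, 1, 1, 0, 0, 0], ![0, 1, 0, 1, 0, 0, 0], ![0, 0, -1, -1, 0, 0, 0], ![0, 0, 1, 1, 1, 1, 0],
      ![0, 0, 0, -1, -1, -1, 0], ![0, 0, 0, 1, 1, 1, 1], ![0, 0, 0, 0, 0, -1, -1]]),
    (3, ![![1, 0, 1, 1, 0, 0, 0], ![0, 1, 0, 1, 0, 0, 0], ![0, 0, -1, -1, 0, 0, 0], ![0, 0, 1, 1, 1, 0, 0],
      ![0, 0, 0, -1, -1, 0, 0], ![0, 0, 0, 1, 1, 1, 1], ![0, 0, 0, 0, 0, 0, -1]]),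
    (2, ![![1, 0, 1, 0, 0, 0, 0], ![0, 1, 0, 0, 0, 0, 0], ![0, 0, -1, 0, 0, 0, 0], ![0, 0, 1, 1, 1, 0, 0],
      ![0, 0, 0, 0, -1, 0, 0], ![0, 0, 0, 0, 1, 1, 1], ![0, 0, 0, 0, 0, 0, -1]]),
    (6, ![![1, 0, 0, 0, 0, 0, 0], ![0, 1, 0, 0, 0, 0, 0], ![0, 0, 1, 0, 0, 0, 0], ![0, 0, 0, 1, 1, 0, 0],
      ![0, 0, 0, 0, -1, 0, 0], ![0, 0, 0, 0, 1, 1, 1], ![0, 0, 0, 0, 0, 0, -1]]),
    (4, ![![1, 0, 0, 0, 0, 0, 0], ![0, 1, 0, 0, 0, 0, 0], ![0, 0, 1, 0, 0, 0, 0], ![0, 0, 0, 1, 1, 0, 0],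
      ![0, 0, 0, 0, -1, 0, 0], ![0, 0, 0, 0, 1, 1, 0], ![0, 0, 0, 0, 0, 0, 1]])]

theorem chain7_ok : ChainOK Am chain7 := by decide +kernel

/-- coefficients of the eigenvector -/
def V7 : Fin 6 → Fin 7 → ℤ := ![![0, 0, 0, 0, -1, -1, 0], ![0, 0, -1, -1, -1, -1, 0], ![-1, 0, -1, -1, -1, -1, 0], ![0, 0, 0, -1, -1, -1, 0],
    ![0, 0, 0, 0, 0, -1, 0], ![0, 0, 0, 0, 0, 0, 1]]

/-- the functional -/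
def U7 : Fin 7 → ℤ := ![0, 0, 0, 1, -1, 0, 0]

theorem eig7 : EigOK (hd chain7) c7 V7 U7 := by decide +kernel

theorem conn7 {F : Type u} [Field F] [Finite F] {r s : ℕ} (hr : r.Prime) (hs : s.Prime)
    (hrd : ¬ r ∣ 2) (hsd : ¬ s ∣ 2) (h1 : (r : ℤ) ∣ pv c7 (Nat.card F)) (h2 : (s : ℤ) ∣ pv c7 (Nat.card F)) :
    PG.Conn ↥(chevE7.group F) r s := by
  have := finW
  exact conn_of_eig hp CoxeterMatrix.E₇.toCoxeterSystem H129.TorusChar.invC_E7 (by norm_num)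
    (chain_rep hp CoxeterMatrix.E₇.toCoxeterSystem hA chain7_ok) eig7 eig7 hr hs hrd hsd
    h1 h2

/-- partial products of an element with characteristic polynomial divisible by the cyclotomic polynomial 9 -/
def chain9 : List (Fin 7 × Mat 7) := [
    (2, ![![-1, 0, -1, 0, 0, 0, 0], ![0, 0, 0, 0, -1, 0, 0], ![1, 1, 2, 2, 1, 0, 0], ![0, -1, -1, -1, 0, 0, 0],
      ![0, 1, 1, 1, 1, 1, 1], ![0, 0, 0, 0, 0, 0, -1], ![0, 0, -1, -1, -1, -1, 0]]),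
    (4, ![![-1, 0, 0, 0, 0, 0, 0], ![0, 0, 0, 0, -1, 0, 0], ![1, 1, 1, 2, 1, 0, 0], ![0, -1, 0, -1, 0, 0, 0],
      ![0, 1, 0, 1, 1, 1, 1], ![0, 0, 0, 0, 0, 0, -1], ![0, 0, 0, -1, -1, -1, 0]]),
    (0, ![![-1, 0, 0, 0, 0, 0, 0], ![0, 0, 0, 0, 1, 0, 0], ![1, 1, 1, 2, 1, 0, 0], ![0, -1, 0, -1, -1, 0, 0],
      ![0, 1, 0, 1, 1, 1, 1], ![0, 0, 0, 0, 0, 0, -1], ![0, 0, 0, -1, -1, -1, 0]]),
    (3, ![![1, 0, 0, 0, 0, 0, 0], ![0, 0, 0, 0, 1, 0, 0], ![0, 1, 1, 2, 1, 0, 0], ![0, -1, 0, -1, -1, 0, 0],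
      ![0, 1, 0, 1, 1, 1, 1], ![0, 0, 0, 0, 0, 0, -1], ![0, 0, 0, -1, -1, -1, 0]]),
    (5, ![![1, 0, 0, 0, 0, 0, 0], ![0, 0, 0, 1, 1, 0, 0], ![0, 1, 1, 1, 1, 0, 0], ![0, -1, 0, -1, -1, 0, 0],
      ![0, 1, 0, 1, 1, 1, 1], ![0, 0, 0, 0, 0, 0, -1], ![0, 0, 0, 0, -1, -1, 0]]),
    (4, ![![1, 0, 0, 0, 0, 0, 0], ![0, 0, 0, 1, 1, 1, 0], ![0, 1, 1, 1, 1, 1, 0], ![0, -1, 0, -1, -1, -1, 0],
      ![0, 1, 0, 1, 1, 1, 1], ![0, 0, 0, 0, 0, -1, -1], ![0, 0, 0, 0, -1, 0, 0]]),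
    (1, ![![1, 0, 0, 0, 0, 0, 0], ![0, 0, 0, 1, 1, 1, 0], ![0, 1, 1, 1, 1, 1, 0], ![0, -1, 0, -1, -1, -1, 0],
      ![0, 1, 0, 1, 1, 1, 1], ![0, 0, 0, 0, -1, -1, -1], ![0, 0, 0, 0, 1, 0, 0]]),
    (5, ![![1, 0, 0, 0, 0, 0, 0], ![0, 1, 0, 1, 1, 1, 0], ![0, 0, 1, 1, 1, 1, 0], ![0, 0, 0, -1, -1, -1, 0],
      ![0, 0, 0, 1, 1, 1, 1], ![0, 0, 0, 0, -1, -1, -1], ![0, 0, 0, 0, 1, 0, 0]]),
    (4, ![![1, 0, 0, 0, 0, 0, 0], ![0, 1, 0, 1, 1, 0, 0], ![0, 0, 1, 1, 1, 0, 0], ![0, 0, 0, -1, -1, 0, 0],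
      ![0, 0, 0, 1, 1, 1, 1], ![0, 0, 0, 0, -1, -1, -1], ![0, 0, 0, 0, 1, 1, 0]]),
    (6, ![![1, 0, 0, 0, 0, 0, 0], ![0, 1, 0, 1, 0, 0, 0], ![0, 0, 1, 1, 0, 0, 0], ![0, 0, 0, -1, 0, 0, 0],
      ![0, 0, 0, 1, 1, 1, 1], ![0, 0, 0, 0, 0, -1, -1], ![0, 0, 0, 0, 0, 1, 0]]),
    (5, ![![1, 0, 0, 0, 0, 0, 0], ![0, 1, 0, 1, 0, 0, 0], ![0, 0, 1, 1, 0, 0, 0], ![0, 0, 0, -1, 0, 0, 0],
      ![0, 0, 0, 1, 1, 1, 0], ![0, 0, 0, 0, 0, -1, 0], ![0, 0, 0, 0, 0, 1, 1]]),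
    (3, ![![1, 0, 0, 0, 0, 0, 0], ![0, 1, 0, 1, 0, 0, 0], ![0, 0, 1, 1, 0, 0, 0], ![0, 0, 0, -1, 0, 0, 0],
      ![0, 0, 0, 1, 1, 0, 0], ![0, 0, 0, 0, 0, 1, 0], ![0, 0, 0, 0, 0, 0, 1]])]

theorem chain9_ok : ChainOK Am chain9 := by decide +kernel

/-- coefficients of the eigenvector -/
def V9 : Fin 6 → Fin 7 → ℤ := ![![-1, 0, -1, -1, 0, 0, 0], ![0, -1, -1, -1, 0, 0, 0], ![0, 0, 0, 1, 0, 0, 0], ![0, 1, 0, 0, 0, 0, 0],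
    ![0, 0, 0, 0, 1, 1, 1], ![0, 0, 0, 1, 1, 0, 0]]

/-- the functional -/
def U9 : Fin 7 → ℤ := ![-1, 0, 0, 0, 0, 0, 0]

theorem eig9 : EigOK (hd chain9) c9 V9 U9 := by decide +kernel

theorem conn9 {F : Type u} [Field F] [Finite F] {r s : ℕ} (hr : r.Prime) (hs : s.Prime)
    (hrd : ¬ r ∣ 2) (hsd : ¬ s ∣ 2) (h1 : (r : ℤ) ∣ pv c9 (Nat.card F)) (h2 : (s : ℤ) ∣ pv c9 (Nat.card F)) :
    PG.Conn ↥(chevE7.group F) r s := by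
  have := finW
  exact conn_of_eig hp CoxeterMatrix.E₇.toCoxeterSystem H129.TorusChar.invC_E7 (by norm_num)
    (chain_rep hp CoxeterMatrix.E₇.toCoxeterSystem hA chain9_ok) eig9 eig9 hr hs hrd hsd
    h1 h2

/-- partial products of an element with characteristic polynomial divisible by the cyclotomic polynomial 14 -/
def chain14 : List (Fin 7 × Mat 7) := [
    (6, ![![0, 0, 1, 0, 0, 0, 0], ![0, 0, 0, 0, 1, 0, 0], ![1, 1, 1, 2, 1, 0, 0], ![0, 0, 0, 0, 0, 1, 1],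
      ![-1, -1, -1, -1, -1, -1, -1], ![0, 1, 0, 0, 0, 0, 0], ![1, 0, 1, 1, 1, 1, 0]]),
    (0, ![![0, 0, 1, 0, 0, 0, 0], ![0, 0, 0, 0, 1, 0, 0], ![1, 1, 1, 2, 1, 0, 0], ![0, 0, 0, 0, 0, 1, 0],
      ![-1, -1, -1, -1, -1, -1, 0], ![0, 1, 0, 0, 0, 0, 0], ![1, 0, 1, 1, 1, 1, 1]]),
    (2, ![![1, 0, 1, 0, 0, 0, 0], ![0, 0, 0, 0, 1, 0, 0], ![0, 1, 1, 2, 1, 0, 0], ![0, 0, 0, 0, 0, 1, 0],
      ![0, -1, -1, -1, -1, -1, 0], ![0, 1, 0, 0, 0, 0, 0], ![0, 0, 1, 1, 1, 1, 1]]),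
    (3, ![![1, 0, 0, 0, 0, 0, 0], ![0, 0, 0, 0, 1, 0, 0], ![0, 1, 1, 2, 1, 0, 0], ![0, 0, 0, 0, 0, 1, 0],
      ![0, -1, 0, -1, -1, -1, 0], ![0, 1, 0, 0, 0, 0, 0], ![0, 0, 0, 1, 1, 1, 1]]),
    (4, ![![1, 0, 0, 0, 0, 0, 0], ![0, 0, 0, 1, 1, 0, 0], ![0, 1, 1, 1, 1, 0, 0], ![0, 0, 0, 0, 0, 1, 0],
      ![0, -1, 0, -1, -1, -1, 0], ![0, 1, 0, 1, 0, 0, 0], ![0, 0, 0, 0, 1, 1, 1]]),
    (1, ![![1, 0, 0, 0, 0, 0, 0], ![0, 0, 0, 1, 0, 0, 0], ![0, 1, 1, 1, 0, 0, 0], ![0, 0, 0, 0, 1, 1, 0],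
      ![0, -1, 0, -1, -1, -1, 0], ![0, 1, 0, 1, 1, 0, 0], ![0, 0, 0, 0, 0, 1, 1]]),
    (5, ![![1, 0, 0, 0, 0, 0, 0], ![0, 1, 0, 1, 0, 0, 0], ![0, 0, 1, 1, 0, 0, 0], ![0, 0, 0, 0, 1, 1, 0],
      ![0, 0, 0, -1, -1, -1, 0], ![0, 0, 0, 1, 1, 0, 0], ![0, 0, 0, 0, 0, 1, 1]]),
    (3, ![![1, 0, 0, 0, 0, 0, 0], ![0, 1, 0, 1, 0, 0, 0], ![0, 0, 1, 1, 0, 0, 0], ![0, 0, 0, 0, 1, 0, 0],
      ![0, 0, 0, -1, -1, 0, 0], ![0, 0, 0, 1, 1, 1, 0], ![0, 0, 0, 0, 0, 0, 1]]),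
    (4, ![![1, 0, 0, 0, 0, 0, 0], ![0, 1, 0, 0, 0, 0, 0], ![0, 0, 1, 0, 0, 0, 0], ![0, 0, 0, 1, 1, 0, 0],
      ![0, 0, 0, 0, -1, 0, 0], ![0, 0, 0, 0, 1, 1, 0], ![0, 0, 0, 0, 0, 0, 1]])]

theorem chain14_ok : ChainOK Am chain14 := by decide +kernel

/-- coefficients of the eigenvector -/
def V14 : Fin 6 → Fin 7 → ℤ := ![![0, 0, 0, 0, 0, -1, 0], ![0, 0, 0, -1, -1, 0, -1], ![0, -1, -1, -1, 0, 0, 1], ![-1, 0, -1, -1, -2, -1, -1],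
    ![0, -1, 0, 0, 1, 0, 0], ![0, 1, 0, 0, 0, 0, 0]]

/-- the functional -/
def U14 : Fin 7 → ℤ := ![1, 0, 0, 0, 0, -1, 0]

theorem eig14 : EigOK (hd chain14) c14 V14 U14 := by decide +kernel

theorem conn14 {F : Type u} [Field F] [Finite F] {r s : ℕ} (hr : r.Prime) (hs : s.Prime)
    (hrd : ¬ r ∣ 2) (hsd : ¬ s ∣ 2) (h1 : (r : ℤ) ∣ pv c14 (Nat.card F)) (h2 : (s : ℤ) ∣ pv c14 (Nat.card F)) :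
    PG.Conn ↥(chevE7.group F) r s := by
  have := finW
  exact conn_of_eig hp CoxeterMatrix.E₇.toCoxeterSystem H129.TorusChar.invC_E7 (by norm_num)
    (chain_rep hp CoxeterMatrix.E₇.toCoxeterSystem hA chain14_ok) eig14 eig14 hr hs hrd hsd
    h1 h2

/-- partial products of an element with characteristic polynomial divisible by the cyclotomic polynomial 18 -/
def chain18 : List (Fin 7 × Mat 7) := [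
    (4, ![![0, 0, 1, 1, 1, 0, 0], ![0, -1, 0, -1, -1, 0, 0], ![-1, 0, -1, -1, -1, 0, 0], ![1, 1, 1, 1, 1, 0, 0],
      ![0, 0, 0, 1, 1, 1, 1], ![0, 0, 0, 0, -1, -1, -1], ![0, 0, 0, 0, 1, 1, 0]]),
    (3, ![![0, 0, 1, 1, 0, 0, 0], ![0, -1, 0, -1, 0, 0, 0], ![-1, 0, -1, -1, 0, 0, 0], ![1, 1, 1, 1, 0, 0, 0],
      ![0, 0, 0, 1, 1, 1, 1], ![0, 0, 0, 0, 0, -1, -1], ![0, 0, 0, 0, 0, 1, 0]]),
    (0, ![![0, 0, 1, 0, 0, 0, 0], ![0, -1, 0, 0, 0, 0, 0], ![-1, 0, -1, 0, 0, 0, 0], ![1, 1, 1, 1, 0, 0, 0],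
      ![0, 0, 0, 0, 1, 1, 1], ![0, 0, 0, 0, 0, -1, -1], ![0, 0, 0, 0, 0, 1, 0]]),
    (6, ![![1, 0, 1, 0, 0, 0, 0], ![0, -1, 0, 0, 0, 0, 0], ![0, 0, -1, 0, 0, 0, 0], ![0, 1, 1, 1, 0, 0, 0],
      ![0, 0, 0, 0, 1, 1, 1], ![0, 0, 0, 0, 0, -1, -1], ![0, 0, 0, 0, 0, 1, 0]]),
    (1, ![![1, 0, 1, 0, 0, 0, 0], ![0, -1, 0, 0, 0, 0, 0], ![0, 0, -1, 0, 0, 0, 0], ![0, 1, 1, 1, 0, 0, 0],
      ![0, 0, 0, 0, 1, 1, 0], ![0, 0, 0, 0, 0, -1, 0], ![0, 0, 0, 0, 0, 1, 1]]),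
    (2, ![![1, 0, 1, 0, 0, 0, 0], ![0, 1, 0, 0, 0, 0, 0], ![0, 0, -1, 0, 0, 0, 0], ![0, 0, 1, 1, 0, 0, 0],
      ![0, 0, 0, 0, 1, 1, 0], ![0, 0, 0, 0, 0, -1, 0], ![0, 0, 0, 0, 0, 1, 1]]),
    (5, ![![1, 0, 0, 0, 0, 0, 0], ![0, 1, 0, 0, 0, 0, 0], ![0, 0, 1, 0, 0, 0, 0], ![0, 0, 0, 1, 0, 0, 0],
      ![0, 0, 0, 0, 1, 1, 0], ![0, 0, 0, 0, 0, -1, 0], ![0, 0, 0, 0, 0, 1, 1]])]

theorem chain18_ok : ChainOK Am chain18 := by decide +kernel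

/-- coefficients of the eigenvector -/
def V18 : Fin 6 → Fin 7 → ℤ := ![![1, 0, 1, 0, 0, 0, 0], ![0, 1, 0, 1, 0, 0, 0], ![0, 0, 1, 1, 1, 1, 0], ![0, 1, 0, 1, 1, 1, 1],
    ![0, 0, 1, 1, 1, 0, 0], ![1, 0, 0, 0, 0, 0, 0]]

/-- the functional -/
def U18 : Fin 7 → ℤ := ![0, 1, 1, -1, 0, 0, 0]

theorem eig18 : EigOK (hd chain18) c18 V18 U18 := by decide +kernel

theorem conn18 {F : Type u} [Field F] [Finite F] {r s : ℕ} (hr : r.Prime) (hs : s.Prime)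
    (hrd : ¬ r ∣ 2) (hsd : ¬ s ∣ 2) (h1 : (r : ℤ) ∣ pv c18 (Nat.card F)) (h2 : (s : ℤ) ∣ pv c18 (Nat.card F)) :
    PG.Conn ↥(chevE7.group F) r s := by
  have := finW
  exact conn_of_eig hp CoxeterMatrix.E₇.toCoxeterSystem H129.TorusChar.invC_E7 (by norm_num)
    (chain_rep hp CoxeterMatrix.E₇.toCoxeterSystem hA chain18_ok) eig18 eig18 hr hs hrd hsd
    h1 h2

end Cfsg.Agent.H493.PGE7
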