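import Cfsg.Agent.H493.PGCyc
import Cfsg.Agent.S1092
import Cfsg.Agent.S1093

/-!
# Adjacency inside one cyclotomic torus, type E8
-/

set_option autoImplicit false

namespace Cfsg.Agent.H493.PGE8

open Cfsg.Agent.H129.WData Cfsg.Agent.ChevalleyStructure.CoxeterGeomTypes Cfsg.Agent.Nodes.RGDChev
open Cfsg.Lie Cfsg.Lie.ChevalleyDatum
open Cfsg.Agent.H493.PGTorus Cfsg.Agent.H493.PGCyc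

universe u

/-- the Cartan matrix -/
def Am : Mat 8 := ![![2, 0, -1, 0, 0, 0, 0, 0], ![0, 2, 0, -1, 0, 0, 0, 0], ![-1, 0, 2, -1, 0, 0, 0, 0],
    ![0, -1, -1, 2, -1, 0, 0, 0], ![0, 0, 0, -1, 2, -1, 0, 0], ![0, 0, 0, 0, -1, 2, -1, 0],
    ![0, 0, 0, 0, 0, -1, 2, -1], ![0, 0, 0, 0, 0, 0, -1, 2]]

theorem hA : ∀ i j, Am i j = cartanOf chevE8 8 i j := by decide +kernel

theorem hp : IsType chevE8 8 CoxeterMatrix.E₈ := by simp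

theorem finW : Finite CoxeterMatrix.E₈.Group := by
  have hW : Nat.card CoxeterMatrix.E₈.Group = 696729600 :=
    Cfsg.Agent.S1093.result (⟨8, CoxeterMatrix.E₈⟩, 696729600) (by simp)
  exact Nat.finite_of_card_ne_zero (by rw [hW]; norm_num)

/-- partial products of an element with characteristic polynomial divisible by the cyclotomic polynomial 15 -/
def chain15 : List (Fin 8 × Mat 8) := [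
    (5, ![![0, 1, 0, 1, 1, 0, 0, 0], ![0, 1, 1, 1, 1, 1, 1, 0], ![1, 0, 1, 1, 1, 1, 1, 0],
      ![-1, -1, -2, -2, -2, -1, -1, 0], ![1, 1, 2, 2, 2, 1, 1, 1], ![-1, -1, -1, -1, -1, -1, -1, -1],
      ![1, 1, 1, 1, 1, 1, 0, 0], ![0, 0, 0, 0, -1, -1, 0, 0]]),
    (0, ![![0, 1, 0, 1, 1, 1, 0, 0], ![0, 1, 1, 1, 1, 1, 1, 0], ![1, 0, 1, 1, 1, 1, 1, 0],
      ![-1, -1, -2, -2, -2, -2, -1, 0], ![1, 1, 2, 2, 2, 2, 1, 1], ![-1, -1, -1, -1, -1, -1, -1, -1],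
      ![1, 1, 1, 1, 1, 0, 0, 0], ![0, 0, 0, 0, -1, 0, 0, 0]]),
    (5, ![![0, 1, 0, 1, 1, 1, 0, 0], ![1, 1, 1, 1, 1, 1, 1, 0], ![0, 0, 1, 1, 1, 1, 1, 0],
      ![-1, -1, -2, -2, -2, -2, -1, 0], ![1, 1, 2, 2, 2, 2, 1, 1], ![0, -1, -1, -1, -1, -1, -1, -1],
      ![0, 1, 1, 1, 1, 0, 0, 0], ![0, 0, 0, 0, -1, 0, 0, 0]]),
    (2, ![![0, 1, 0, 1, 1, 0, 0, 0], ![1, 1, 1, 1, 1, 1, 1, 0], ![0, 0, 1, 1, 1, 1, 1, 0],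
      ![-1, -1, -2, -2, -2, -1, -1, 0], ![1, 1, 2, 2, 2, 1, 1, 1], ![0, -1, -1, -1, -1, -1, -1, -1],
      ![0, 1, 1, 1, 1, 1, 0, 0], ![0, 0, 0, 0, -1, -1, 0, 0]]),
    (6, ![![0, 1, 1, 1, 1, 0, 0, 0], ![1, 1, 1, 1, 1, 1, 1, 0], ![0, 0, 0, 1, 1, 1, 1, 0],
      ![-1, -1, -1, -2, -2, -1, -1, 0], ![1, 1, 1, 2, 2, 1, 1, 1], ![0, -1, 0, -1, -1, -1, -1, -1],
      ![0, 1, 0, 1, 1, 1, 0, 0], ![0, 0, 0, 0, -1, -1, 0, 0]]),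
    (7, ![![0, 1, 1, 1, 1, 0, 0, 0], ![1, 1, 1, 1, 1, 1, 0, 0], ![0, 0, 0, 1, 1, 1, 0, 0],
      ![-1, -1, -1, -2, -2, -1, 0, 0], ![1, 1, 1, 2, 2, 1, 1, 1], ![0, -1, 0, -1, -1, -1, -1, -1],
      ![0, 1, 0, 1, 1, 1, 1, 0], ![0, 0, 0, 0, -1, -1, -1, 0]]),
    (1, ![![0, 1, 1, 1, 1, 0, 0, 0], ![1, 1, 1, 1, 1, 1, 0, 0], ![0, 0, 0, 1, 1, 1, 0, 0],
      ![-1, -1, -1, -2, -2, -1, 0, 0], ![1, 1, 1, 2, 2, 1, 1, 0], ![0, -1, 0, -1, -1, -1, -1, 0],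
      ![0, 1, 0, 1, 1, 1, 1, 1], ![0, 0, 0, 0, -1, -1, -1, -1]]),
    (4, ![![0, 0, 1, 1, 1, 0, 0, 0], ![1, 0, 1, 1, 1, 1, 0, 0], ![0, 1, 0, 1, 1, 1, 0, 0],
      ![-1, -1, -1, -2, -2, -1, 0, 0], ![1, 1, 1, 2, 2, 1, 1, 0], ![0, 0, 0, -1, -1, -1, -1, 0],
      ![0, 0, 0, 1, 1, 1, 1, 1], ![0, 0, 0, 0, -1, -1, -1, -1]]),
    (3, ![![0, 0, 1, 1, 0, 0, 0, 0], ![1, 0, 1, 1, 1, 1, 0, 0], ![0, 1, 0, 1, 1, 1, 0, 0],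
      ![-1, -1, -1, -2, -1, -1, 0, 0], ![1, 1, 1, 2, 1, 1, 1, 0], ![0, 0, 0, -1, -1, -1, -1, 0],
      ![0, 0, 0, 1, 1, 1, 1, 1], ![0, 0, 0, 0, 0, -1, -1, -1]]),
    (5, ![![0, 0, 1, 0, 0, 0, 0, 0], ![1, 0, 1, 1, 1, 1, 0, 0], ![0, 1, 0, 1, 1, 1, 0, 0],
      ![-1, -1, -1, -1, -1, -1, 0, 0], ![1, 1, 1, 1, 1, 1, 1, 0], ![0, 0, 0, 0, -1, -1, -1, 0],
      ![0, 0, 0, 0, 1, 1, 1, 1], ![0, 0, 0, 0, 0, -1, -1, -1]]),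
    (5, ![![0, 0, 1, 0, 0, 0, 0, 0], ![1, 0, 1, 1, 1, 0, 0, 0], ![0, 1, 0, 1, 1, 0, 0, 0],
      ![-1, -1, -1, -1, -1, 0, 0, 0], ![1, 1, 1, 1, 1, 1, 1, 0], ![0, 0, 0, 0, -1, -1, -1, 0],
      ![0, 0, 0, 0, 1, 1, 1, 1], ![0, 0, 0, 0, 0, 0, -1, -1]]),
    (0, ![![0, 0, 1, 0, 0, 0, 0, 0], ![1, 0, 1, 1, 1, 1, 0, 0], ![0, 1, 0, 1, 1, 1, 0, 0],
      ![-1, -1, -1, -1, -1, -1, 0, 0], ![1, 1, 1, 1, 1, 1, 1, 0], ![0, 0, 0, 0, -1, -1, -1, 0],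
      ![0, 0, 0, 0, 1, 1, 1, 1], ![0, 0, 0, 0, 0, -1, -1, -1]]),
    (5, ![![1, 0, 1, 0, 0, 0, 0, 0], ![0, 0, 1, 1, 1, 1, 0, 0], ![0, 1, 0, 1, 1, 1, 0, 0],
      ![0, -1, -1, -1, -1, -1, 0, 0], ![0, 1, 1, 1, 1, 1, 1, 0], ![0, 0, 0, 0, -1, -1, -1, 0],
      ![0, 0, 0, 0, 1, 1, 1, 1], ![0, 0, 0, 0, 0, -1, -1, -1]]),
    (2, ![![1, 0, 1, 0, 0, 0, 0, 0], ![0, 0, 1, 1, 1, 0, 0, 0], ![0, 1, 0, 1, 1, 0, 0, 0],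
      ![0, -1, -1, -1, -1, 0, 0, 0], ![0, 1, 1, 1, 1, 1, 1, 0], ![0, 0, 0, 0, -1, -1, -1, 0],
      ![0, 0, 0, 0, 1, 1, 1, 1], ![0, 0, 0, 0, 0, 0, -1, -1]]),
    (6, ![![1, 0, 0, 0, 0, 0, 0, 0], ![0, 0, 0, 1, 1, 0, 0, 0], ![0, 1, 1, 1, 1, 0, 0, 0], ![0, -1, 0, -1, -1, 0, 0, 0],
      ![0, 1, 0, 1, 1, 1, 1, 0], ![0, 0, 0, 0, -1, -1, -1, 0], ![0, 0, 0, 0, 1, 1, 1, 1],
      ![0, 0, 0, 0, 0, 0, -1, -1]]),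
    (7, ![![1, 0, 0, 0, 0, 0, 0, 0], ![0, 0, 0, 1, 1, 0, 0, 0], ![0, 1, 1, 1, 1, 0, 0, 0], ![0, -1, 0, -1, -1, 0, 0, 0],
      ![0, 1, 0, 1, 1, 1, 0, 0], ![0, 0, 0, 0, -1, -1, 0, 0], ![0, 0, 0, 0, 1, 1, 1, 1], ![0, 0, 0, 0, 0, 0, 0, -1]]),
    (1, ![![1, 0, 0, 0, 0, 0, 0, 0], ![0, 0, 0, 1, 1, 0, 0, 0], ![0, 1, 1, 1, 1, 0, 0, 0], ![0, -1, 0, -1, -1, 0, 0, 0],
      ![0, 1, 0, 1, 1, 1, 0, 0], ![0, 0, 0, 0, -1, -1, 0, 0], ![0, 0, 0, 0, 1, 1, 1, 0], ![0, 0, 0, 0, 0, 0, 0, 1]]),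
    (4, ![![1, 0, 0, 0, 0, 0, 0, 0], ![0, 1, 0, 1, 1, 0, 0, 0], ![0, 0, 1, 1, 1, 0, 0, 0], ![0, 0, 0, -1, -1, 0, 0, 0],
      ![0, 0, 0, 1, 1, 1, 0, 0], ![0, 0, 0, 0, -1, -1, 0, 0], ![0, 0, 0, 0, 1, 1, 1, 0], ![0, 0, 0, 0, 0, 0, 0, 1]]),
    (3, ![![1, 0, 0, 0, 0, 0, 0, 0], ![0, 1, 0, 1, 0, 0, 0, 0], ![0, 0, 1, 1, 0, 0, 0, 0], ![0, 0, 0, -1, 0, 0, 0, 0],
      ![0, 0, 0, 1, 1, 1, 0, 0], ![0, 0, 0, 0, 0, -1, 0, 0], ![0, 0, 0, 0, 0, 1, 1, 0], ![0, 0, 0, 0, 0, 0, 0, 1]]),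
    (5, ![![1, 0, 0, 0, 0, 0, 0, 0], ![0, 1, 0, 0, 0, 0, 0, 0], ![0, 0, 1, 0, 0, 0, 0, 0], ![0, 0, 0, 1, 0, 0, 0, 0],
      ![0, 0, 0, 0, 1, 1, 0, 0], ![0, 0, 0, 0, 0, -1, 0, 0], ![0, 0, 0, 0, 0, 1, 1, 0], ![0, 0, 0, 0, 0, 0, 0, 1]])]

theorem chain15_ok : ChainOK Am chain15 := by decide +kernel

/-- coefficients of the eigenvector -/
def V15 : Fin 8 → Fin 8 → ℤ := ![![0, 0, 0, -1, -1, 0, 0, 0], ![-1, 0, -1, 0, 0, -1, 0, 0], ![1, 0, 0, 0, 0, 0, -1, 0],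
    ![0, -1, 0, -1, -1, 0, 1, 0], ![-1, 0, 0, 0, 0, -1, -1, 0], ![0, 0, -1, -1, 0, 1, 0, 0],
    ![0, 0, 0, 0, -1, -1, 0, -1], ![0, 0, 0, 0, 0, 0, 0, 1]]

/-- the functional -/
def U15 : Fin 8 → ℤ := ![1, 2, 1, -3, 2, -2, 1, 0]

theorem eig15 : EigOK (hd chain15) c15 V15 U15 := by decide +kernel

theorem conn15 {F : Type u} [Field F] [Finite F] {r s : ℕ} (hr : r.Prime) (hs : s.Prime)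
    (h1 : (r : ℤ) ∣ pv c15 (Nat.card F)) (h2 : (s : ℤ) ∣ pv c15 (Nat.card F)) :
    PG.Conn ↥(chevE8.group F) r s := by
  have := finW
  exact conn_of_eig hp CoxeterMatrix.E₈.toCoxeterSystem H129.TorusChar.invC_E8 one_ne_zero
    (chain_rep hp CoxeterMatrix.E₈.toCoxeterSystem hA chain15_ok) eig15 eig15 hr hs (fun h => hr.one_lt.ne' (Nat.dvd_one.1 h)) (fun h => hs.one_lt.ne' (Nat.dvd_one.1 h))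
    h1 h2

/-- partial products of an element with characteristic polynomial divisible by the cyclotomic polynomial 20 -/
def chain20 : List (Fin 8 × Mat 8) := [
    (4, ![![0, 0, 1, 1, 1, 0, 0, 0], ![0, 0, 0, 1, 1, 1, 1, 0], ![1, 1, 1, 1, 1, 1, 1, 0],
      ![-1, -1, -1, -2, -2, -1, -1, 0], ![1, 1, 1, 2, 2, 1, 0, 0], ![0, 0, 0, 0, -1, -1, 0, 0],
      ![0, 0, 0, 0, 1, 1, 1, 1], ![-1, 0, -1, -1, -1, -1, -1, -1]]),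
    (6, ![![0, 0, 1, 1, 0, 0, 0, 0], ![0, 0, 0, 1, 1, 1, 1, 0], ![1, 1, 1, 1, 1, 1, 1, 0],
      ![-1, -1, -1, -2, -1, -1, -1, 0], ![1, 1, 1, 2, 1, 1, 0, 0], ![0, 0, 0, 0, 0, -1, 0, 0],
      ![0, 0, 0, 0, 0, 1, 1, 1], ![-1, 0, -1, -1, -1, -1, -1, -1]]),
    (0, ![![0, 0, 1, 1, 0, 0, 0, 0], ![0, 0, 0, 1, 1, 1, 0, 0], ![1, 1, 1, 1, 1, 1, 0, 0],
      ![-1, -1, -1, -2, -1, -1, 0, 0], ![1, 1, 1, 2, 1, 1, 1, 0], ![0, 0, 0, 0, 0, -1, -1, 0],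
      ![0, 0, 0, 0, 0, 1, 1, 1], ![-1, 0, -1, -1, -1, -1, -1, -1]]),
    (2, ![![1, 0, 1, 1, 0, 0, 0, 0], ![0, 0, 0, 1, 1, 1, 0, 0], ![0, 1, 1, 1, 1, 1, 0, 0],
      ![0, -1, -1, -2, -1, -1, 0, 0], ![0, 1, 1, 2, 1, 1, 1, 0], ![0, 0, 0, 0, 0, -1, -1, 0],
      ![0, 0, 0, 0, 0, 1, 1, 1], ![0, 0, -1, -1, -1, -1, -1, -1]]),
    (3, ![![1, 0, 1, 1, 0, 0, 0, 0], ![0, 0, 1, 1, 1, 1, 0, 0], ![0, 1, 0, 1, 1, 1, 0, 0],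
      ![0, -1, -1, -2, -1, -1, 0, 0], ![0, 1, 1, 2, 1, 1, 1, 0], ![0, 0, 0, 0, 0, -1, -1, 0],
      ![0, 0, 0, 0, 0, 1, 1, 1], ![0, 0, 0, -1, -1, -1, -1, -1]]),
    (2, ![![1, 0, 1, 0, 0, 0, 0, 0], ![0, 0, 1, 1, 1, 1, 0, 0], ![0, 1, 0, 1, 1, 1, 0, 0],
      ![0, -1, -1, -1, -1, -1, 0, 0], ![0, 1, 1, 1, 1, 1, 1, 0], ![0, 0, 0, 0, 0, -1, -1, 0],
      ![0, 0, 0, 0, 0, 1, 1, 1], ![0, 0, 0, 0, -1, -1, -1, -1]]),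
    (0, ![![1, 0, 0, 0, 0, 0, 0, 0], ![0, 0, 0, 1, 1, 1, 0, 0], ![0, 1, 1, 1, 1, 1, 0, 0],
      ![0, -1, 0, -1, -1, -1, 0, 0], ![0, 1, 0, 1, 1, 1, 1, 0], ![0, 0, 0, 0, 0, -1, -1, 0],
      ![0, 0, 0, 0, 0, 1, 1, 1], ![0, 0, 0, 0, -1, -1, -1, -1]]),
    (4, ![![-1, 0, 0, 0, 0, 0, 0, 0], ![0, 0, 0, 1, 1, 1, 0, 0], ![1, 1, 1, 1, 1, 1, 0, 0],
      ![0, -1, 0, -1, -1, -1, 0, 0], ![0, 1, 0, 1, 1, 1, 1, 0], ![0, 0, 0, 0, 0, -1, -1, 0],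
      ![0, 0, 0, 0, 0, 1, 1, 1], ![0, 0, 0, 0, -1, -1, -1, -1]]),
    (0, ![![-1, 0, 0, 0, 0, 0, 0, 0], ![0, 0, 0, 1, 1, 1, 0, 0], ![1, 1, 1, 1, 1, 1, 0, 0],
      ![0, -1, 0, -1, -1, -1, 0, 0], ![0, 1, 0, 1, 1, 1, 1, 0], ![0, 0, 0, 0, -1, -1, -1, 0],
      ![0, 0, 0, 0, 1, 1, 1, 1], ![0, 0, 0, 0, 0, -1, -1, -1]]),
    (5, ![![1, 0, 0, 0, 0, 0, 0, 0], ![0, 0, 0, 1, 1, 1, 0, 0], ![0, 1, 1, 1, 1, 1, 0, 0],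
      ![0, -1, 0, -1, -1, -1, 0, 0], ![0, 1, 0, 1, 1, 1, 1, 0], ![0, 0, 0, 0, -1, -1, -1, 0],
      ![0, 0, 0, 0, 1, 1, 1, 1], ![0, 0, 0, 0, 0, -1, -1, -1]]),
    (1, ![![1, 0, 0, 0, 0, 0, 0, 0], ![0, 0, 0, 1, 1, 0, 0, 0], ![0, 1, 1, 1, 1, 0, 0, 0], ![0, -1, 0, -1, -1, 0, 0, 0],
      ![0, 1, 0, 1, 1, 1, 1, 0], ![0, 0, 0, 0, -1, -1, -1, 0], ![0, 0, 0, 0, 1, 1, 1, 1],
      ![0, 0, 0, 0, 0, 0, -1, -1]]),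
    (6, ![![1, 0, 0, 0, 0, 0, 0, 0], ![0, 1, 0, 1, 1, 0, 0, 0], ![0, 0, 1, 1, 1, 0, 0, 0], ![0, 0, 0, -1, -1, 0, 0, 0],
      ![0, 0, 0, 1, 1, 1, 1, 0], ![0, 0, 0, 0, -1, -1, -1, 0], ![0, 0, 0, 0, 1, 1, 1, 1],
      ![0, 0, 0, 0, 0, 0, -1, -1]]),
    (4, ![![1, 0, 0, 0, 0, 0, 0, 0], ![0, 1, 0, 1, 1, 0, 0, 0], ![0, 0, 1, 1, 1, 0, 0, 0], ![0, 0, 0, -1, -1, 0, 0, 0],
      ![0, 0, 0, 1, 1, 1, 0, 0], ![0, 0, 0, 0, -1, -1, 0, 0], ![0, 0, 0, 0, 1, 1, 1, 1], ![0, 0, 0, 0, 0, 0, 0, -1]]),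
    (3, ![![1, 0, 0, 0, 0, 0, 0, 0], ![0, 1, 0, 1, 0, 0, 0, 0], ![0, 0, 1, 1, 0, 0, 0, 0], ![0, 0, 0, -1, 0, 0, 0, 0],
      ![0, 0, 0, 1, 1, 1, 0, 0], ![0, 0, 0, 0, 0, -1, 0, 0], ![0, 0, 0, 0, 0, 1, 1, 1], ![0, 0, 0, 0, 0, 0, 0, -1]]),
    (5, ![![1, 0, 0, 0, 0, 0, 0, 0], ![0, 1, 0, 0, 0, 0, 0, 0], ![0, 0, 1, 0, 0, 0, 0, 0], ![0, 0, 0, 1, 0, 0, 0, 0],
      ![0, 0, 0, 0, 1, 1, 0, 0], ![0, 0, 0, 0, 0, -1, 0, 0], ![0, 0, 0, 0, 0, 1, 1, 1], ![0, 0, 0, 0, 0, 0, 0, -1]]),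
    (7, ![![1, 0, 0, 0, 0, 0, 0, 0], ![0, 1, 0, 0, 0, 0, 0, 0], ![0, 0, 1, 0, 0, 0, 0, 0], ![0, 0, 0, 1, 0, 0, 0, 0],
      ![0, 0, 0, 0, 1, 0, 0, 0], ![0, 0, 0, 0, 0, 1, 0, 0], ![0, 0, 0, 0, 0, 0, 1, 1], ![0, 0, 0, 0, 0, 0, 0, -1]])]

theorem chain20_ok : ChainOK Am chain20 := by decide +kernel

/-- coefficients of the eigenvector -/
def V20 : Fin 8 → Fin 8 → ℤ := ![![0, 0, 0, 1, 1, 0, 0, 0], ![0, 0, -1, -1, 0, 0, 0, 0], ![-1, -1, -1, -3, -2, -1, 0, 0],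
    ![0, -1, 0, -1, -2, -1, 0, 0], ![0, 0, 0, 1, 0, 0, -1, -1], ![0, 1, 0, 1, 1, 0, -1, 0],
    ![0, 0, 0, 0, 1, 1, 1, 1], ![0, 0, 0, 0, 0, 0, 1, 0]]

/-- the functional -/
def U20 : Fin 8 → ℤ := ![0, -1, 0, 0, 1, -1, 0, 0]

theorem eig20 : EigOK (hd chain20) c20 V20 U20 := by decide +kernel

theorem conn20 {F : Type u} [Field F] [Finite F] {r s : ℕ} (hr : r.Prime) (hs : s.Prime)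
    (h1 : (r : ℤ) ∣ pv c20 (Nat.card F)) (h2 : (s : ℤ) ∣ pv c20 (Nat.card F)) :
    PG.Conn ↥(chevE8.group F) r s := by
  have := finW
  exact conn_of_eig hp CoxeterMatrix.E₈.toCoxeterSystem H129.TorusChar.invC_E8 one_ne_zero
    (chain_rep hp CoxeterMatrix.E₈.toCoxeterSystem hA chain20_ok) eig20 eig20 hr hs (fun h => hr.one_lt.ne' (Nat.dvd_one.1 h)) (fun h => hs.one_lt.ne' (Nat.dvd_one.1 h))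
    h1 h2

/-- partial products of an element with characteristic polynomial divisible by the cyclotomic polynomial 24 -/
def chain24 : List (Fin 8 × Mat 8) := [
    (5, ![![0, 1, 1, 1, 1, 1, 0, 0], ![1, 1, 1, 2, 1, 1, 0, 0], ![0, 0, 0, 0, -1, -1, 0, 0],
      ![-1, -1, -1, -1, 0, 0, 0, 0], ![1, 0, 1, 0, 0, 0, 0, 0], ![0, 1, 0, 1, 1, 1, 1, 0],
      ![0, 0, 0, 0, 0, 0, 0, 1], ![0, 0, 0, 0, 0, -1, -1, -1]]),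
    (5, ![![0, 1, 1, 1, 1, 0, 0, 0], ![1, 1, 1, 2, 1, 0, 0, 0], ![0, 0, 0, 0, -1, 0, 0, 0],
      ![-1, -1, -1, -1, 0, 0, 0, 0], ![1, 0, 1, 0, 0, 0, 0, 0], ![0, 1, 0, 1, 1, 1, 1, 0],
      ![0, 0, 0, 0, 0, 0, 0, 1], ![0, 0, 0, 0, 0, 0, -1, -1]]),
    (1, ![![0, 1, 1, 1, 1, 1, 0, 0], ![1, 1, 1, 2, 1, 1, 0, 0], ![0, 0, 0, 0, -1, -1, 0, 0],
      ![-1, -1, -1, -1, 0, 0, 0, 0], ![1, 0, 1, 0, 0, 0, 0, 0], ![0, 1, 0, 1, 1, 1, 1, 0],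
      ![0, 0, 0, 0, 0, 0, 0, 1], ![0, 0, 0, 0, 0, -1, -1, -1]]),
    (3, ![![0, 0, 1, 1, 1, 1, 0, 0], ![1, 1, 1, 2, 1, 1, 0, 0], ![0, 0, 0, 0, -1, -1, 0, 0],
      ![-1, 0, -1, -1, 0, 0, 0, 0], ![1, 0, 1, 0, 0, 0, 0, 0], ![0, 0, 0, 1, 1, 1, 1, 0], ![0, 0, 0, 0, 0, 0, 0, 1],
      ![0, 0, 0, 0, 0, -1, -1, -1]]),
    (5, ![![0, 0, 1, 1, 1, 1, 0, 0], ![1, 1, 1, 1, 1, 1, 0, 0], ![0, 0, 0, -1, -1, -1, 0, 0],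
      ![-1, 0, -1, 0, 0, 0, 0, 0], ![1, 0, 1, 1, 0, 0, 0, 0], ![0, 0, 0, 0, 1, 1, 1, 0], ![0, 0, 0, 0, 0, 0, 0, 1],
      ![0, 0, 0, 0, 0, -1, -1, -1]]),
    (4, ![![0, 0, 1, 1, 1, 0, 0, 0], ![1, 1, 1, 1, 1, 0, 0, 0], ![0, 0, 0, -1, -1, 0, 0, 0],
      ![-1, 0, -1, 0, 0, 0, 0, 0], ![1, 0, 1, 1, 0, 0, 0, 0], ![0, 0, 0, 0, 1, 1, 1, 0], ![0, 0, 0, 0, 0, 0, 0, 1],
      ![0, 0, 0, 0, 0, 0, -1, -1]]),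
    (6, ![![0, 0, 1, 1, 0, 0, 0, 0], ![1, 1, 1, 1, 0, 0, 0, 0], ![0, 0, 0, -1, 0, 0, 0, 0], ![-1, 0, -1, 0, 0, 0, 0, 0],
      ![1, 0, 1, 1, 1, 0, 0, 0], ![0, 0, 0, 0, 0, 1, 1, 0], ![0, 0, 0, 0, 0, 0, 0, 1], ![0, 0, 0, 0, 0, 0, -1, -1]]),
    (0, ![![0, 0, 1, 1, 0, 0, 0, 0], ![1, 1, 1, 1, 0, 0, 0, 0], ![0, 0, 0, -1, 0, 0, 0, 0], ![-1, 0, -1, 0, 0, 0, 0, 0],
      ![1, 0, 1, 1, 1, 0, 0, 0], ![0, 0, 0, 0, 0, 1, 0, 0], ![0, 0, 0, 0, 0, 0, 1, 1], ![0, 0, 0, 0, 0, 0, 0, -1]]),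
    (2, ![![1, 0, 1, 1, 0, 0, 0, 0], ![0, 1, 1, 1, 0, 0, 0, 0], ![0, 0, 0, -1, 0, 0, 0, 0], ![0, 0, -1, 0, 0, 0, 0, 0],
      ![0, 0, 1, 1, 1, 0, 0, 0], ![0, 0, 0, 0, 0, 1, 0, 0], ![0, 0, 0, 0, 0, 0, 1, 1], ![0, 0, 0, 0, 0, 0, 0, -1]]),
    (3, ![![1, 0, 1, 1, 0, 0, 0, 0], ![0, 1, 0, 1, 0, 0, 0, 0], ![0, 0, -1, -1, 0, 0, 0, 0], ![0, 0, 1, 0, 0, 0, 0, 0],
      ![0, 0, 0, 1, 1, 0, 0, 0], ![0, 0, 0, 0, 0, 1, 0, 0], ![0, 0, 0, 0, 0, 0, 1, 1], ![0, 0, 0, 0, 0, 0, 0, -1]]),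
    (2, ![![1, 0, 1, 0, 0, 0, 0, 0], ![0, 1, 0, 0, 0, 0, 0, 0], ![0, 0, -1, 0, 0, 0, 0, 0], ![0, 0, 1, 1, 0, 0, 0, 0],
      ![0, 0, 0, 0, 1, 0, 0, 0], ![0, 0, 0, 0, 0, 1, 0, 0], ![0, 0, 0, 0, 0, 0, 1, 1], ![0, 0, 0, 0, 0, 0, 0, -1]]),
    (1, ![![1, 0, 0, 0, 0, 0, 0, 0], ![0, 1, 0, 0, 0, 0, 0, 0], ![0, 0, 1, 0, 0, 0, 0, 0], ![0, 0, 0, 1, 0, 0, 0, 0],
      ![0, 0, 0, 0, 1, 0, 0, 0], ![0, 0, 0, 0, 0, 1, 0, 0], ![0, 0, 0, 0, 0, 0, 1, 1], ![0, 0, 0, 0, 0, 0, 0, -1]]),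
    (1, ![![1, 0, 0, 0, 0, 0, 0, 0], ![0, -1, 0, 0, 0, 0, 0, 0], ![0, 0, 1, 0, 0, 0, 0, 0], ![0, 1, 0, 1, 0, 0, 0, 0],
      ![0, 0, 0, 0, 1, 0, 0, 0], ![0, 0, 0, 0, 0, 1, 0, 0], ![0, 0, 0, 0, 0, 0, 1, 1], ![0, 0, 0, 0, 0, 0, 0, -1]]),
    (7, ![![1, 0, 0, 0, 0, 0, 0, 0], ![0, 1, 0, 0, 0, 0, 0, 0], ![0, 0, 1, 0, 0, 0, 0, 0], ![0, 0, 0, 1, 0, 0, 0, 0],
      ![0, 0, 0, 0, 1, 0, 0, 0], ![0, 0, 0, 0, 0, 1, 0, 0], ![0, 0, 0, 0, 0, 0, 1, 1], ![0, 0, 0, 0, 0, 0, 0, -1]]),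
    (4, ![![1, 0, 0, 0, 0, 0, 0, 0], ![0, 1, 0, 0, 0, 0, 0, 0], ![0, 0, 1, 0, 0, 0, 0, 0], ![0, 0, 0, 1, 0, 0, 0, 0],
      ![0, 0, 0, 0, 1, 0, 0, 0], ![0, 0, 0, 0, 0, 1, 0, 0], ![0, 0, 0, 0, 0, 0, 1, 0], ![0, 0, 0, 0, 0, 0, 0, 1]]),
    (4, ![![1, 0, 0, 0, 0, 0, 0, 0], ![0, 1, 0, 0, 0, 0, 0, 0], ![0, 0, 1, 0, 0, 0, 0, 0], ![0, 0, 0, 1, 1, 0, 0, 0],
      ![0, 0, 0, 0, -1, 0, 0, 0], ![0, 0, 0, 0, 1, 1, 0, 0], ![0, 0, 0, 0, 0, 0, 1, 0], ![0, 0, 0, 0, 0, 0, 0, 1]])]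

theorem chain24_ok : ChainOK Am chain24 := by decide +kernel

/-- coefficients of the eigenvector -/
def V24 : Fin 8 → Fin 8 → ℤ := ![![0, -1, -1, -1, 0, 0, 0, 0], ![-1, 0, -1, 0, 0, 0, 0, 0], ![0, 0, 0, 0, -1, 0, 0, 0],
    ![0, 0, 0, -1, -1, -1, -1, -1], ![0, 0, 0, -1, -1, -1, -1, 0], ![0, -1, -1, -2, -1, -1, 0, 0],
    ![-1, -1, -1, -1, 0, 0, 0, 0], ![0, 0, 0, 1, 0, 0, 0, 0]]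

/-- the functional -/
def U24 : Fin 8 → ℤ := ![1, 0, -1, 0, 0, 1, -1, 0]

theorem eig24 : EigOK (hd chain24) c24 V24 U24 := by decide +kernel

theorem conn24 {F : Type u} [Field F] [Finite F] {r s : ℕ} (hr : r.Prime) (hs : s.Prime)
    (h1 : (r : ℤ) ∣ pv c24 (Nat.card F)) (h2 : (s : ℤ) ∣ pv c24 (Nat.card F)) :
    PG.Conn ↥(chevE8.group F) r s := by
  have := finW
  exact conn_of_eig hp CoxeterMatrix.E₈.toCoxeterSystem H129.TorusChar.invC_E8 one_ne_zero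
    (chain_rep hp CoxeterMatrix.E₈.toCoxeterSystem hA chain24_ok) eig24 eig24 hr hs (fun h => hr.one_lt.ne' (Nat.dvd_one.1 h)) (fun h => hs.one_lt.ne' (Nat.dvd_one.1 h))
    h1 h2

/-- partial products of an element with characteristic polynomial divisible by the cyclotomic polynomial 30 -/
def chain30 : List (Fin 8 × Mat 8) := [
    (5, ![![0, 0, 1, 0, 0, 0, 0, 0], ![1, 0, 1, 1, 1, 0, 0, 0], ![0, 1, 0, 1, 1, 0, 0, 0],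
      ![-1, -1, -1, -1, -1, 0, 0, 0], ![1, 1, 1, 1, 1, 1, 1, 0], ![0, 0, 0, 0, -1, -1, -1, 0],
      ![0, 0, 0, 0, 1, 1, 1, 1], ![0, 0, 0, 0, 0, 0, -1, -1]]),
    (0, ![![0, 0, 1, 0, 0, 0, 0, 0], ![1, 0, 1, 1, 1, 1, 0, 0], ![0, 1, 0, 1, 1, 1, 0, 0],
      ![-1, -1, -1, -1, -1, -1, 0, 0], ![1, 1, 1, 1, 1, 1, 1, 0], ![0, 0, 0, 0, -1, -1, -1, 0],
      ![0, 0, 0, 0, 1, 1, 1, 1], ![0, 0, 0, 0, 0, -1, -1, -1]]),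
    (5, ![![1, 0, 1, 0, 0, 0, 0, 0], ![0, 0, 1, 1, 1, 1, 0, 0], ![0, 1, 0, 1, 1, 1, 0, 0],
      ![0, -1, -1, -1, -1, -1, 0, 0], ![0, 1, 1, 1, 1, 1, 1, 0], ![0, 0, 0, 0, -1, -1, -1, 0],
      ![0, 0, 0, 0, 1, 1, 1, 1], ![0, 0, 0, 0, 0, -1, -1, -1]]),
    (2, ![![1, 0, 1, 0, 0, 0, 0, 0], ![0, 0, 1, 1, 1, 0, 0, 0], ![0, 1, 0, 1, 1, 0, 0, 0],
      ![0, -1, -1, -1, -1, 0, 0, 0], ![0, 1, 1, 1, 1, 1, 1, 0], ![0, 0, 0, 0, -1, -1, -1, 0],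
      ![0, 0, 0, 0, 1, 1, 1, 1], ![0, 0, 0, 0, 0, 0, -1, -1]]),
    (6, ![![1, 0, 0, 0, 0, 0, 0, 0], ![0, 0, 0, 1, 1, 0, 0, 0], ![0, 1, 1, 1, 1, 0, 0, 0], ![0, -1, 0, -1, -1, 0, 0, 0],
      ![0, 1, 0, 1, 1, 1, 1, 0], ![0, 0, 0, 0, -1, -1, -1, 0], ![0, 0, 0, 0, 1, 1, 1, 1],
      ![0, 0, 0, 0, 0, 0, -1, -1]]),
    (7, ![![1, 0, 0, 0, 0, 0, 0, 0], ![0, 0, 0, 1, 1, 0, 0, 0], ![0, 1, 1, 1, 1, 0, 0, 0], ![0, -1, 0, -1, -1, 0, 0, 0],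
      ![0, 1, 0, 1, 1, 1, 0, 0], ![0, 0, 0, 0, -1, -1, 0, 0], ![0, 0, 0, 0, 1, 1, 1, 1], ![0, 0, 0, 0, 0, 0, 0, -1]]),
    (1, ![![1, 0, 0, 0, 0, 0, 0, 0], ![0, 0, 0, 1, 1, 0, 0, 0], ![0, 1, 1, 1, 1, 0, 0, 0], ![0, -1, 0, -1, -1, 0, 0, 0],
      ![0, 1, 0, 1, 1, 1, 0, 0], ![0, 0, 0, 0, -1, -1, 0, 0], ![0, 0, 0, 0, 1, 1, 1, 0], ![0, 0, 0, 0, 0, 0, 0, 1]]),
    (4, ![![1, 0, 0, 0, 0, 0, 0, 0], ![0, 1, 0, 1, 1, 0, 0, 0], ![0, 0, 1, 1, 1, 0, 0, 0], ![0, 0, 0, -1, -1, 0, 0, 0],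
      ![0, 0, 0, 1, 1, 1, 0, 0], ![0, 0, 0, 0, -1, -1, 0, 0], ![0, 0, 0, 0, 1, 1, 1, 0], ![0, 0, 0, 0, 0, 0, 0, 1]]),
    (3, ![![1, 0, 0, 0, 0, 0, 0, 0], ![0, 1, 0, 1, 0, 0, 0, 0], ![0, 0, 1, 1, 0, 0, 0, 0], ![0, 0, 0, -1, 0, 0, 0, 0],
      ![0, 0, 0, 1, 1, 1, 0, 0], ![0, 0, 0, 0, 0, -1, 0, 0], ![0, 0, 0, 0, 0, 1, 1, 0], ![0, 0, 0, 0, 0, 0, 0, 1]]),
    (5, ![![1, 0, 0, 0, 0, 0, 0, 0], ![0, 1, 0, 0, 0, 0, 0, 0], ![0, 0, 1, 0, 0, 0, 0, 0], ![0, 0, 0, 1, 0, 0, 0, 0],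
      ![0, 0, 0, 0, 1, 1, 0, 0], ![0, 0, 0, 0, 0, -1, 0, 0], ![0, 0, 0, 0, 0, 1, 1, 0], ![0, 0, 0, 0, 0, 0, 0, 1]])]

theorem chain30_ok : ChainOK Am chain30 := by decide +kernel

/-- coefficients of the eigenvector -/
def V30 : Fin 8 → Fin 8 → ℤ := ![![0, 0, 0, 0, 0, -1, -1, 0], ![0, 0, 0, -1, -1, -1, -1, 0], ![0, -1, -1, -2, -1, 0, 0, 0],
    ![-1, -1, -2, -2, -1, 0, 1, 0], ![-1, -1, -1, -1, -1, -1, 0, -1], ![0, 0, 0, 0, -1, -1, -1, -1],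
    ![0, 0, 0, 0, 0, 0, -1, 0], ![0, 0, 0, 0, 0, 0, 0, 1]]

/-- the functional -/
def U30 : Fin 8 → ℤ := ![1, 0, -1, 0, 1, -1, 0, 0]

theorem eig30 : EigOK (hd chain30) c30 V30 U30 := by decide +kernel

theorem conn30 {F : Type u} [Field F] [Finite F] {r s : ℕ} (hr : r.Prime) (hs : s.Prime)
    (h1 : (r : ℤ) ∣ pv c30 (Nat.card F)) (h2 : (s : ℤ) ∣ pv c30 (Nat.card F)) :
    PG.Conn ↥(chevE8.group F) r s := by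
  have := finW
  exact conn_of_eig hp CoxeterMatrix.E₈.toCoxeterSystem H129.TorusChar.invC_E8 one_ne_zero
    (chain_rep hp CoxeterMatrix.E₈.toCoxeterSystem hA chain30_ok) eig30 eig30 hr hs (fun h => hr.one_lt.ne' (Nat.dvd_one.1 h)) (fun h => hs.one_lt.ne' (Nat.dvd_one.1 h))
    h1 h2

end Cfsg.Agent.H493.PGE8
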