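import Cfsg.Agent.H493.PGCyc
import Cfsg.Agent.S1092
import Cfsg.Agent.S1093

/-!
# Adjacency inside one cyclotomic torus, type G2
-/

set_option autoImplicit false

namespace Cfsg.Agent.H493.PGG2

open Cfsg.Agent.H129.WData Cfsg.Agent.ChevalleyStructure.CoxeterGeomTypes Cfsg.Agent.Nodes.RGDChev
open Cfsg.Lie Cfsg.Lie.ChevalleyDatum
open Cfsg.Agent.H493.PGTorus Cfsg.Agent.H493.PGCyc

universe u

/-- the Cartan matrix -/
def Am : Mat 2 := ![![2, -3], ![-1, 2]]

theorem hA : ∀ i j, Am i j = cartanOf chevG2 2 i j := by decide +kernel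

theorem hp : IsType chevG2 2 CoxeterMatrix.G₂ := by simp

theorem finW : Finite CoxeterMatrix.G₂.Group := by
  have hW : Nat.card CoxeterMatrix.G₂.Group = 12 :=
    Cfsg.Agent.S1092.result (⟨2, CoxeterMatrix.G₂⟩, 12) (by simp)
  exact Nat.finite_of_card_ne_zero (by rw [hW]; norm_num)

/-- partial products of an element with characteristic polynomial divisible by the cyclotomic polynomial 3 -/
def chain3 : List (Fin 2 × Mat 2) := [
    (1, ![![-2, -1], ![3, 1]]),
    (0, ![![-2, -1], ![3, 2]]),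
    (1, ![![-1, -1], ![3, 2]]),
    (0, ![![-1, 0], ![3, 1]])]

theorem chain3_ok : ChainOK Am chain3 := by decide +kernel

/-- coefficients of the eigenvector -/
def V3 : Fin 2 → Fin 2 → ℤ := ![![-1, -1], ![1, 0]]

/-- the functional -/
def U3 : Fin 2 → ℤ := ![0, -1]

theorem eig3 : EigOK (hd chain3) c3 V3 U3 := by decide +kernel

theorem conn3 {F : Type u} [Field F] [Finite F] {r s : ℕ} (hr : r.Prime) (hs : s.Prime)
    (h1 : (r : ℤ) ∣ pv c3 (Nat.card F)) (h2 : (s : ℤ) ∣ pv c3 (Nat.card F)) :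
    PG.Conn ↥(chevG2.group F) r s := by
  have := finW
  exact conn_of_eig hp CoxeterMatrix.G₂.toCoxeterSystem H129.TorusChar.invC_G2 one_ne_zero
    (chain_rep hp CoxeterMatrix.G₂.toCoxeterSystem hA chain3_ok) eig3 eig3 hr hs (fun h => hr.one_lt.ne' (Nat.dvd_one.1 h)) (fun h => hs.one_lt.ne' (Nat.dvd_one.1 h))
    h1 h2

/-- partial products of an element with characteristic polynomial divisible by the cyclotomic polynomial 6 -/
def chain6 : List (Fin 2 × Mat 2) := [
    (0, ![![2, 1], ![-3, -1]]),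
    (1, ![![1, 1], ![0, -1]])]

theorem chain6_ok : ChainOK Am chain6 := by decide +kernel

/-- coefficients of the eigenvector -/
def V6 : Fin 2 → Fin 2 → ℤ := ![![1, 1], ![1, 0]]

/-- the functional -/
def U6 : Fin 2 → ℤ := ![0, 1]

theorem eig6 : EigOK (hd chain6) c6 V6 U6 := by decide +kernel

theorem conn6 {F : Type u} [Field F] [Finite F] {r s : ℕ} (hr : r.Prime) (hs : s.Prime)
    (h1 : (r : ℤ) ∣ pv c6 (Nat.card F)) (h2 : (s : ℤ) ∣ pv c6 (Nat.card F)) :
    PG.Conn ↥(chevG2.group F) r s := by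
  have := finW
  exact conn_of_eig hp CoxeterMatrix.G₂.toCoxeterSystem H129.TorusChar.invC_G2 one_ne_zero
    (chain_rep hp CoxeterMatrix.G₂.toCoxeterSystem hA chain6_ok) eig6 eig6 hr hs (fun h => hr.one_lt.ne' (Nat.dvd_one.1 h)) (fun h => hs.one_lt.ne' (Nat.dvd_one.1 h))
    h1 h2

end Cfsg.Agent.H493.PGG2
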