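import Cfsg.Agent.H493.PGRows
import Cfsg.Agent.H493.PGG2
import Cfsg.Agent.H493.PGF4
import Cfsg.Agent.H493.PGE6
import Cfsg.Agent.H493.PGE7
import Cfsg.Agent.H493.PGE8
import Cfsg.Agent.H493.PGE6T
import Cfsg.Agent.H493.PGF4T
import Cfsg.Agent.H493.PGD4T
import Cfsg.Agent.H493.PGSzRee
import Cfsg.Agent.H378.ExcNear

/-!
# Rows for the number of components of the prime graph: exceptional groups
-/

set_option autoImplicit false

namespace Cfsg.Agent.H493.PGRows

open Cfsg.Agent.H493.PG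
open Cfsg.Agent
open Cfsg.Agent.H378.ExcAdj (od)

theorem conn_of_adj {G : Type*} [Group G] [Finite G] {a b : ℕ} (h : H94.PG.Adj G a b) : Conn G a b :=
  conn_of h.conn

theorem few_isoChevG2 {K : Type*} [Group K] (h : Cfsg.Lie.IsoChevG2 K) : Few 4 K := by
  obtain ⟨F, _, _, -, ⟨e⟩⟩ := h
  refine Few.congr e.symm ?_
  refine few_of_cover (k := 3) (by norm_num) ![fun r => Conn ↥(Cfsg.Lie.chevG2.group F) r 2,
    fun r => od (Nat.card F) r = 3, fun r => od (Nat.card F) r = 6] ?_ ?_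
  · intro r hr hd
    rcases H378.ExcAdj.adj_G2 F hr hd with h | h | h | h
    · subst h
      exact ⟨0, Conn.refl _⟩
    · exact ⟨0, conn_of_adj h⟩
    · exact ⟨1, h⟩
    · exact ⟨2, h⟩
  · intro i r s hr hs _ _ h1 h2
    fin_cases i
    · exact Conn.trans h1 (Conn.symm h2)
    · exact PGG2.conn3 hr hs (H378.CycTab.dvd3 hr h1) (H378.CycTab.dvd3 hs h2)
    · exact PGG2.conn6 hr hs (H378.CycTab.dvd6 hr h1) (H378.CycTab.dvd6 hs h2)

theorem few_isoF4 {K : Type*} [Group K] (h : Cfsg.Lie.IsoF4 K) : Few 4 K := by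
  obtain ⟨F, _, _, ⟨e⟩⟩ := h
  refine Few.congr e.symm ?_
  refine few_of_cover (k := 3) (by norm_num) ![fun r => Conn ↥(Cfsg.Lie.chevF4.group F) r 2,
    fun r => od (Nat.card F) r = 8, fun r => od (Nat.card F) r = 12] ?_ ?_
  · intro r hr hd
    rcases H378.ExcAdj.adj_F4 F hr hd with h | h | h | h
    · subst h
      exact ⟨0, Conn.refl _⟩
    · exact ⟨0, conn_of_adj h⟩
    · exact ⟨1, h⟩
    · exact ⟨2, h⟩
  · intro i r s hr hs _ _ h1 h2
    fin_cases i
    · exact Conn.trans h1 (Conn.symm h2)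
    · exact PGF4.conn8 hr hs (H378.CycTab.dvd8 hr h1) (H378.CycTab.dvd8 hs h2)
    · exact PGF4.conn12 hr hs (H378.CycTab.dvd12 hr h1) (H378.CycTab.dvd12 hs h2)

theorem few_isoE6 {K : Type*} [Group K] (h : Cfsg.Lie.IsoChevE6 K) : Few 3 K := by
  obtain ⟨F, _, _, ⟨e⟩⟩ := h
  refine Few.congr e.symm ?_
  refine few_of_cover (k := 2) (by norm_num) ![fun r => Conn ↥(Cfsg.Lie.chevE6.group F) r 2,
    fun r => od (Nat.card F) r = 9] ?_ ?_
  · intro r hr hd
    rcases H378.ExcNear.near_E6 F hr hd with h | h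
    · exact ⟨0, conn_of h.conn⟩
    · exact ⟨1, h⟩
  · intro i r s hr hs _ _ h1 h2
    fin_cases i
    · exact Conn.trans h1 (Conn.symm h2)
    · exact PGE6.conn9 hr hs (H378.ExcNear.not_dvd_of_od hr h1 (by norm_num) (by norm_num))
        (H378.ExcNear.not_dvd_of_od hs h2 (by norm_num) (by norm_num)) (H378.CycTab.dvd9 hr h1) (H378.CycTab.dvd9 hs h2)

theorem few_isoE7 {K : Type*} [Group K] (h : Cfsg.Lie.IsoE7 K) : Few 4 K := by
  obtain ⟨F, _, _, ⟨e⟩⟩ := h
  refine Few.congr e.symm ?_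
  refine few_of_cover (k := 3) (by norm_num) ![fun r => Conn ↥(Cfsg.Lie.chevE7.group F) r 2,
    fun r => od (Nat.card F) r = 7, fun r => od (Nat.card F) r = 9] ?_ ?_
  · intro r hr hd
    rcases H378.ExcNear.near_E7 (F := F) hr hd with h | ⟨-, h | h⟩
    · exact ⟨0, conn_of h.conn⟩
    · exact ⟨1, h⟩
    · exact ⟨2, h⟩
  · intro i r s hr hs _ _ h1 h2
    fin_cases i
    · exact Conn.trans h1 (Conn.symm h2)
    · exact PGE7.conn7 hr hs (H378.ExcNear.not_dvd_of_od hr h1 (by norm_num) (by norm_num))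
        (H378.ExcNear.not_dvd_of_od hs h2 (by norm_num) (by norm_num)) (H378.CycTab.dvd7 hr h1) (H378.CycTab.dvd7 hs h2)
    · exact PGE7.conn9 hr hs (H378.ExcNear.not_dvd_of_od hr h1 (by norm_num) (by norm_num))
        (H378.ExcNear.not_dvd_of_od hs h2 (by norm_num) (by norm_num)) (H378.CycTab.dvd9 hr h1) (H378.CycTab.dvd9 hs h2)

theorem few_isoE8 {K : Type*} [Group K] (h : Cfsg.Lie.IsoE8 K) : Few 6 K := by
  obtain ⟨F, _, _, ⟨e⟩⟩ := h
  refine Few.congr e.symm ?_
  refine few_of_cover (k := 5) (by norm_num) ![fun r => Conn ↥(Cfsg.Lie.chevE8.group F) r 2,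
    fun r => od (Nat.card F) r = 15, fun r => od (Nat.card F) r = 20, fun r => od (Nat.card F) r = 24,
    fun r => od (Nat.card F) r = 30] ?_ ?_
  · intro r hr hd
    rcases H378.ExcAdj.adj_E8 F hr hd with h | h | h | h | h | h
    · subst h
      exact ⟨0, Conn.refl _⟩
    · exact ⟨0, conn_of_adj h⟩
    · exact ⟨1, h⟩
    · exact ⟨2, h⟩
    · exact ⟨3, h⟩
    · exact ⟨4, h⟩
  · intro i r s hr hs _ _ h1 h2
    fin_cases i
    · exact Conn.trans h1 (Conn.symm h2)
    · exact PGE8.conn15 hr hs (H378.CycTab.dvd15 hr h1) (H378.CycTab.dvd15 hs h2)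
    · exact PGE8.conn20 hr hs (H378.CycTab.dvd20 hr h1) (H378.CycTab.dvd20 hs h2)
    · exact PGE8.conn24 hr hs (H378.CycTab.dvd24 hr h1) (H378.CycTab.dvd24 hs h2)
    · exact PGE8.conn30 hr hs (H378.CycTab.dvd30 hr h1) (H378.CycTab.dvd30 hs h2)

/-- **all exceptional groups** -/
theorem few_exceptional {K : Type*} [Group K] [Finite K] (h : Cfsg.IsExceptionalLieType K) : Few 6 K := by
  rcases h with h | h | h | h | h | h | h | h | h | h | h
  · exact (few_isoChevG2 h).mono (by norm_num)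
  · exact (few_isoF4 h).mono (by norm_num)
  · exact (few_isoE6 h).mono (by norm_num)
  · exact (few_isoE7 h).mono (by norm_num)
  · exact few_isoE8 h
  · exact PGE6T.few_iso2E6 h
  · exact (PGD4T.few_iso3D4 h).mono (by norm_num)
  · exact (few_isoSuzuki h).mono (by norm_num)
  · exact (few_isoRee h).mono (by norm_num)
  · exact (PGF4T.few_iso2F4 h).mono (by norm_num)
  · exact (few_tits h).mono (by norm_num)

end Cfsg.Agent.H493.PGRows
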