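import Cfsg.Agent.H493.F4End
import Cfsg.Agent.BpExc.Emb

/-!
# The fixed points of the Steinberg endomorphism of `F₄(2^(2m+1))` are `²F₄(2^(2m+1))`
-/

set_option autoImplicit false
set_option linter.unusedSectionVars false

namespace Cfsg.Agent.H493.F4Fix

open Cfsg.Lie Cfsg.Agent.ChevalleyStructure.Elts Cfsg.Agent.ChevalleyStructure.TwF4.Bits
  Cfsg.Agent.ChevalleyStructure.TwF4.Fix Cfsg.Agent.ChevalleyStructure.TwF4.TwistedFix
open Cfsg.Agent.ChevalleyStructure.TwF4 Cfsg.Agent.H493.F4End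
open Cfsg.Agent.ChevalleyStructure.TwF4.Rel (bar)
open Cfsg.Agent.ChevalleyStructure.TwF4.NStruct (R HasPerm permHom hasPerm_permHom
  exists_mono_permHom permHom_eq_one_iff N_conj_diagonal Wm_le_N nG_mem_Wm permHom_car)
open Cfsg.Agent.ChevalleyStructure.TwF4.WeylDih (r33 r27 r25 r24 barR)

universe u

section

variable {K : Type u} [Field K] [CharP K 2]

/-- the matrix -/
abbrev mt (g : ↥(chevF4.group K)) : Matrix chevF4.Idx chevF4.Idx K := ((g : GL chevF4.Idx K) : Matrix chevF4.Idx chevF4.Idx K)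

/-- the fixed points of the twisted relation -/
abbrev FF [Finite K] (φ : K →+* K) : Subgroup (GL chevF4.Idx K) := Cfsg.Agent.ChevalleyStructure.TwF4.Fix.Fix φ

theorem iA_emb (f : K →+* K) (g : ↥(chevF4.group K)) :
    Amat (mt (Cfsg.Agent.GpExc.Field.emb hD f g)) = (Amat (mt g)).map f := by
  ext i j
  rfl

theorem coe_gam_A (g : ↥(chevF4.group K)) : Amat (mt (gam K g)) = Cmat (mt g) := congrArg Units.val (iA_gam g)

theorem Amat_ste (m : ℕ) (g : ↥(chevF4.group K)) : Amat (mt (ste K m g)) = (Cmat (mt g)).map (iterateFrobenius K 2 m) := by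
  rw [← coe_gam_A]
  exact iA_emb _ _

theorem mem_Fix_of_ste [Finite K] {m : ℕ} {φ : K →+* K} (hφ : Rln φ (2 ^ m)) {g : ↥(chevF4.group K)} (h : ste K m g = g) :
    (g : GL chevF4.Idx K) ∈ FF φ := by
  refine ⟨(group_le_PB g.2).1, ?_⟩
  have h1 := Amat_ste m g
  rw [h] at h1
  show Cmat (mt g) = (Amat (mt g)).map φ
  rw [h1]
  ext i j
  rw [Matrix.map_apply, Matrix.map_apply, iterateFrobenius_def, hφ.phi_pow]

/-! ### the relation between entries -/

theorem tab_short : ∀ s : Fin 48, isLong s.val = false → ∃ a : Fin 26, io a = (Sum.inr (s : R) : chevF4.Idx) ∧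
    ro a = (Sum.inr (barR s) : chevF4.Idx) := by
  decide +kernel

theorem tab_long : ∀ s : Fin 48, isLong s.val = true → ∃ a : Fin 26, ro a = (Sum.inr (s : R) : chevF4.Idx) := by
  decide +kernel

theorem rel [Finite K] {φ : K →+* K} {g : GL chevF4.Idx K} (hg : g ∈ FF φ) {u s : R} (hu : isLong u.val = false)
    (hs : isLong s.val = false) : (g : Matrix chevF4.Idx chevF4.Idx K) (Sum.inr (barR u)) (Sum.inr (barR s)) =
      φ ((g : Matrix chevF4.Idx chevF4.Idx K) (Sum.inr u) (Sum.inr s)) := by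
  obtain ⟨a, ha, ha'⟩ := tab_short u hu
  obtain ⟨b, hb, hb'⟩ := tab_short s hs
  have h1 := congrFun (congrFun hg.2 a) b
  rw [Cmat_apply, Matrix.map_apply, Amat_apply, ha, hb, ha', hb'] at h1
  exact h1

theorem perm_bar [Finite K] {φ : K →+* K} {g : GL chevF4.Idx K} (hg : g ∈ FF φ) {σ : Equiv.Perm R} (hσ : HasPerm g σ)
    {s : R} (hs : isLong s.val = false) : σ (barR s) = barR (σ s) := by
  have hne := (hσ.ne (σ s) s).2 rfl
  have h1 : isLong (σ s).val = false := by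
    by_contra hc
    obtain ⟨b, hb⟩ := tab_long (σ s) (by simpa using hc)
    obtain ⟨a, ha, -⟩ := tab_short s hs
    have h2 := hg.1 b a
    rw [ha, hb] at h2
    exact hne h2
  have h3 := rel hg h1 hs
  have h4 : (g : Matrix chevF4.Idx chevF4.Idx K) (Sum.inr (barR (σ s))) (Sum.inr (barR s)) ≠ 0 := by
    rw [h3]
    exact (map_ne_zero φ).2 hne
  exact ((hσ.ne _ _).1 h4).symm

theorem short_tab : isLong r33.val = false ∧ isLong r27.val = false ∧ barR r33 = r24 ∧ barR r27 = r25 := by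
  decide +kernel

end

variable {K : Type u} [Field K] [Fintype K] [CharP K 2] {m : ℕ} (hK : Fintype.card K = 2 ^ (2 * m + 1))

include hK

theorem T_mem {φ : K →+* K} (hφ : Rln φ (2 ^ m)) (c : Fin 4 → Kˣ)
    (h : (Torus.T c : GL chevF4.Idx K) ∈ FF φ) : (Torus.T c : GL chevF4.Idx K) ∈ twistedF4 K (2 ^ m) := by
  rw [TorusFix.T_mem_iff hK]
  have v := short_tab
  have key : ∀ s : R, isLong s.val = false → Torus.chi c s.val = Torus.chi c (barR s).val ^ 2 ^ m := by
    intro s hs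
    have h1 := rel h hs hs
    rw [Torus.T_inr, Torus.T_inr] at h1
    apply Units.ext
    rw [Units.val_pow_eq_pow_val, h1, ← map_pow, hφ.phi_pow]
  have e1' : Torus.chi c 33 = (Torus.chi c 24) ^ 2 ^ m := by
    have := key r33 v.1
    rw [v.2.2.1] at this
    exact this
  have e2' : Torus.chi c 27 = (Torus.chi c 25) ^ 2 ^ m := by
    have := key r27 v.2.1
    rw [v.2.2.2] at this
    exact this
  rw [Torus.chi33, Torus.chi24] at e1'
  rw [Torus.chi27, Torus.chi25] at e2'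
  obtain ⟨f1, f2⟩ := TwGen.solve (TorusFix.pow_unit hK) _ _ _ _ e1' e2'
  refine ⟨c 2, c 3, ?_⟩
  funext l
  fin_cases l
  · exact f1
  · exact f2
  · rfl
  · rfl

theorem twisted_le_Fix' {φ : K →+* K} (hφ : Rln φ (2 ^ m)) : twistedF4 K (2 ^ m) ≤ FF φ :=
  twisted_le_Fix hφ

theorem N_mem {φ : K →+* K} (hφ : Rln φ (2 ^ m)) {n : GL chevF4.Idx K} (hn : n ∈ chevF4.monomialSubgroup K)
    (h : n ∈ FF φ) : n ∈ twistedF4 K (2 ^ m) := by
  have v := short_tab
  have hp : HasPerm n (permHom K ⟨n, hn⟩) := hasPerm_permHom ⟨n, hn⟩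
  have b33 := perm_bar h hp v.1
  have b27 := perm_bar h hp v.2.1
  rw [v.2.2.1] at b33
  rw [v.2.2.2] at b27
  obtain ⟨d, hd⟩ := WeylDih.exists_iota (σ := permHom K ⟨n, hn⟩) (fun r s => permHom_car ⟨n, hn⟩ r s)
    (congrArg Fin.val b33) (congrArg Fin.val b27)
  obtain ⟨n0, hn0⟩ := WeylDih.iota_mem_piHom (K := K) (e := 2 ^ m) (by positivity) d
  have h1 : permHom K (⟨n0, n0.2.1⟩⁻¹ * ⟨n, hn⟩) = 1 := by
    rw [map_mul, map_inv]
    have h2 : permHom K ⟨n0, n0.2.1⟩ = permHom K ⟨n, hn⟩ := by rw [← hd, ← hn0]; rfl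
    rw [h2, inv_mul_cancel]
  rw [permHom_eq_one_iff] at h1
  have h3 : (n0 : GL chevF4.Idx K)⁻¹ * n ∈ chevF4.diagonalSubgroup K := h1
  rw [Torus.diagonal_eq_range] at h3
  obtain ⟨c, hc⟩ := h3
  have h4 : (Torus.T c : GL chevF4.Idx K) ∈ FF φ := by
    rw [hc]
    exact mul_mem (inv_mem (twisted_le_Fix hφ n0.2.2)) h
  have h5 := T_mem hK hφ c h4
  rw [hc] at h5
  have h6 : n = (n0 : GL chevF4.Idx K) * ((n0 : GL chevF4.Idx K)⁻¹ * n) := by group
  rw [h6]
  exact mul_mem n0.2.2 h5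

/-- **The fixed points of `ste`.** -/
theorem mem_twisted {g : ↥(chevF4.group K)} (h : ste K m g = g) : (g : GL chevF4.Idx K) ∈ twistedF4 K (2 ^ m) := by
  obtain ⟨φ, hφ⟩ := exists_rln hK
  obtain ⟨u, hu, n, hn, v, hv, e, hnv⟩ := Cfsg.Agent.BpExc.FixNorm.exists_form hD g.2
  have hUG : chevF4.posUnipotent K ≤ chevF4.group K := by
    rw [posUnipotent_le_iff hD]
    intro r _ t
    exact xG_mem_group hD r t
  have hNG : chevF4.monomialSubgroup K ≤ chevF4.group K := by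
    rw [monomial_le_iff hD]
    refine ⟨fun r hr t ht => ?_, fun r hr => ?_⟩
    · rw [← coe_hg hr]; exact (hg r t).2
    · rw [← coe_ng hr]; exact (ng r 1).2
  let u' : ↥(chevF4.group K) := ⟨u, hUG hu⟩
  let n' : ↥(chevF4.group K) := ⟨n, hNG hn⟩
  let v' : ↥(chevF4.group K) := ⟨v, hUG hv⟩
  have e' : g = u' * n' * v' := Subtype.ext e
  have e2 : u * n * v = (ste K m u' : GL chevF4.Idx K) * (ste K m n' : GL chevF4.Idx K) *
      (ste K m v' : GL chevF4.Idx K) := by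
    have h1 := congrArg (Subtype.val) h
    rw [e', map_mul, map_mul] at h1
    exact h1.symm
  have hneg : (ste K m n' : GL chevF4.Idx K) * (ste K m v' : GL chevF4.Idx K) *
      (ste K m n' : GL chevF4.Idx K)⁻¹ ∈ chevF4.negUnipotent K := by
    have h1 : ((n' * v' * n'⁻¹ : ↥(chevF4.group K)) : GL chevF4.Idx K) ∈ chevF4.negUnipotent K := hnv
    have h2 := ste_neg m h1
    rw [map_mul, map_mul, map_inv] at h2
    exact h2
  obtain ⟨a1, a2, a3⟩ := Cfsg.Agent.BpExc.FixNorm.form_unique hD hu hn hv hnv (ste_pos m (g := u') hu)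
    (ste_mono m (g := n') hn) (ste_pos m (g := v') hv) hneg e2
  have b1 : u ∈ FF φ := mem_Fix_of_ste hφ (g := u') (Subtype.ext a1.symm)
  have b2 : n ∈ FF φ := mem_Fix_of_ste hφ (g := n') (Subtype.ext a2.symm)
  have b3 : v ∈ FF φ := mem_Fix_of_ste hφ (g := v') (Subtype.ext a3.symm)
  rw [Groups.posUnipotent_eq] at hu hv
  rw [e]
  exact mul_mem (mul_mem (U_inf_Fix_le hφ ⟨hu, b1⟩) (N_mem hK hφ hn b2)) (U_inf_Fix_le hφ ⟨hv, b3⟩)

end Cfsg.Agent.H493.F4Fix
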