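import Cfsg.Agent.H493.PGRows
import Cfsg.Agent.H371.PslThree
import Cfsg.Agent.H948.UMain
import Cfsg.Agent.H377.SpElt
import Cfsg.Agent.H377.OddThree
import Cfsg.Agent.H182.ThreeComp

/-!
# Rows for the number of components of the prime graph: classical groups
-/

set_option autoImplicit false

namespace Cfsg.Agent.H493.PGRows

open Cfsg.Agent.H493.PG
open Cfsg.Agent

theorem few_psl {K : Type*} [Group K] (h : Cfsg.IsPSL K) : Few 5 K := by
  obtain ⟨F, _, _, n, hn, h4, ⟨e⟩⟩ := h
  refine Few.congr e.symm ?_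
  rcases Nat.lt_or_ge n 3 with h3 | h3
  · obtain rfl : n = 2 := by omega
    exact (few_psl_two (h4 rfl)).mono (by norm_num)
  · by_cases hex : n = 3 ∧ (Nat.card F = 2 ∨ Nat.card F = 4)
    · obtain ⟨rfl, hex⟩ := hex
      refine few_of_list [3, 5, 7] (by simp) fun r hr hd hR => ?_
      have hr2 : r = 2 := by
        by_contra hr2
        have key : r ∣ 2 ^ 2 * (3 ^ 2 * 5 * 7) := by
          rcases H371.Psl.dvd_card (by norm_num) hr hd with h1 | ⟨k, hk1, hk3, h1⟩
          · rcases hex with h | h <;> rw [h] at h1 <;> exact h1.trans (by norm_num)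
          · rcases hex with h | h <;> rw [h] at h1 <;> interval_cases k <;> exact h1.trans (by norm_num)
        rcases (Nat.Prime.dvd_mul hr).1 key with h1 | h1
        · exact hr2 ((Nat.prime_dvd_prime_iff_eq hr Nat.prime_two).1 (hr.dvd_of_dvd_pow h1))
        rcases (Nat.Prime.dvd_mul hr).1 h1 with h1 | h1
        · rcases (Nat.Prime.dvd_mul hr).1 h1 with h1 | h1
          · exact hR (by simp [(Nat.prime_dvd_prime_iff_eq hr Nat.prime_three).1 (hr.dvd_of_dvd_pow h1)])
          · exact hR (by simp [(Nat.prime_dvd_prime_iff_eq hr (by norm_num)).1 h1])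
        · exact hR (by simp [(Nat.prime_dvd_prime_iff_eq hr (by norm_num)).1 h1])
      rw [hr2]
      exact Conn.refl _
    · refine Few.mono (n := 3) (by norm_num) (few_of_two le_rfl fun r s hr hs hr2 hs2 hrd hsd => ?_)
      rcases H371.Psl.three h3 hr hs hr2 hs2 hrd hsd with h | h | h | h
      · exact Or.inl (conn_of h)
      · exact Or.inr (Or.inl (conn_of h))
      · exact Or.inr (Or.inr (conn_of h))
      · exact absurd h hex

theorem few_psp {K : Type*} [Group K] [Finite K] (h : Cfsg.IsPSp K) : Few 3 K := by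
  refine few_of_two le_rfl fun r s hr hs _ _ hrd hsd => ?_
  rcases H377.isPSp_three h hr hs hrd hsd with h | h | h | h
  · exact Or.inl (conn_of h.conn).symm
  · exact Or.inr (Or.inl (conn_of h.conn).symm)
  · exact Or.inr (Or.inr (h ▸ Conn.refl _))
  · exact Or.inr (Or.inr (conn_of h.conn))

theorem few_omegaOdd {K : Type*} [Group K] [Finite K] (h : Cfsg.IsPOmegaOdd K) : Few 3 K := by
  refine few_of_two le_rfl fun r s hr hs _ _ hrd hsd => ?_
  rcases H377.OOdd.isPOmegaOdd_three h hr hs hrd hsd with h | h | h | h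
  · exact Or.inl (conn_of h.conn).symm
  · exact Or.inr (Or.inl (conn_of h.conn).symm)
  · exact Or.inr (Or.inr (h ▸ Conn.refl _))
  · exact Or.inr (Or.inr (conn_of h.conn))

theorem few_omegaPlus {K : Type*} [Group K] [Finite K] (h : Cfsg.IsPOmegaPlus K) : Few 3 K := by
  refine few_of_two le_rfl fun r s hr hs hr2 hs2 hrd hsd => ?_
  rcases H182.Orth.conn_of_isPOmegaPlus h hr hs hr2 hs2 hrd hsd with h | h | h
  · exact Or.inl (conn_of h)
  · exact Or.inr (Or.inl (conn_of h))
  · exact Or.inr (Or.inr (conn_of h))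

theorem few_omegaMinus {K : Type*} [Group K] [Finite K] (h : Cfsg.IsPOmegaMinus K) : Few 4 K := by
  obtain ⟨F, iF, iF', m, a, b, hm, hab, ⟨e⟩⟩ := h
  refine Few.congr e.symm ?_
  have : Finite (Cfsg.POmega F (Cfsg.quadFormMinus (m - 1) F a b)) := Finite.of_equiv K e.toEquiv
  have hcard := Cfsg.Agent.S0294.result (F := F) rfl m hm a b hab
  simp only [← Nat.card_eq_fintype_card] at hcard
  have hs := H182.Sign.sg_minusForm (F := F) (m - 1) hab
  rw [Nat.sub_add_cancel (by omega)] at hs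
  rw [← LieClassical.OrthForms.coe_minusForm] at hcard ⊢
  refine few_of_cover (k := 3) (by norm_num) ![fun r =>
    Conn (Cfsg.POmega F ⇑(LieClassical.OrthForms.minusForm (m - 1) F a b)) r 2, fun r => r ≠ 2 ∧ r ∣ Nat.card F ^ (m - 1) + 1,
    fun r => r ≠ 2 ∧ r ∣ Nat.card F ^ m + 1] ?_ ?_
  · intro r hr hd
    by_cases hr2 : r = 2
    · subst hr2
      exact ⟨0, Conn.refl _⟩
    rcases H182.Orth.minus_cases hs hm hcard hr hr2 hd with h | h | h
    · exact ⟨0, (conn_of h).symm⟩
    · exact ⟨1, hr2, h.1⟩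
    · exact ⟨2, hr2, h⟩
  · intro i r s hr hs' _ _ h1 h2
    fin_cases i
    · exact Conn.trans h1 (Conn.symm h2)
    · have h1' : r ≠ 2 ∧ r ∣ Nat.card F ^ (m - 1) + 1 := h1
      have h2' : s ≠ 2 ∧ s ∣ Nat.card F ^ (m - 1) + 1 := h2
      exact conn_of (H182.Orth.conn_pow_add hs hm (by omega) (Or.inl (by omega)) hr hs' h1'.1 h2'.1 h1'.2 h2'.2)
    · have h1' : r ≠ 2 ∧ r ∣ Nat.card F ^ m + 1 := h1
      have h2' : s ≠ 2 ∧ s ∣ Nat.card F ^ m + 1 := h2
      exact conn_of (H182.Orth.conn_pow_add hs hm (by omega) (Or.inr ⟨rfl, rfl⟩) hr hs' h1'.1 h2'.1 h1'.2 h2'.2)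

theorem few_psu {K : Type*} [Group K] [Finite K] (h : Cfsg.IsPSU K) : Few 4 K := by
  by_cases h43 : ∃ (F : Type) (_ : Field F) (_ : Fintype F), Fintype.card F = 3 ^ 2 ∧ Nonempty (K ≃* Cfsg.PSU 4 F 3)
  · obtain ⟨F, _, _, hF, ⟨e⟩⟩ := h43
    refine Few.congr e.symm ?_
    have : Finite (Cfsg.PSU 4 F 3) := Finite.of_equiv K e.toEquiv
    refine few_of_list [5, 7] (by simp) fun r hr hd hR => ?_
    rcases H948.UMain.psu_four_three hF hr hd with h | h | h
    · exact conn_of h.conn
    · exact absurd h (fun h => hR (by simp [h]))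
    · exact absurd h (fun h => hR (by simp [h]))
  by_cases h62 : ∃ (F : Type) (_ : Field F) (_ : Fintype F), Fintype.card F = 2 ^ 2 ∧ Nonempty (K ≃* Cfsg.PSU 6 F 2)
  · obtain ⟨F, _, _, hF, ⟨e⟩⟩ := h62
    refine Few.congr e.symm ?_
    have : Finite (Cfsg.PSU 6 F 2) := Finite.of_equiv K e.toEquiv
    refine few_of_list [7, 11] (by simp) fun r hr hd hR => ?_
    rcases H948.UMain.psu_six_two hF hr hd with h | h | h
    · exact conn_of h.conn
    · exact absurd h (fun h => hR (by simp [h]))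
    · exact absurd h (fun h => hR (by simp [h]))
  refine Few.mono (n := 3) (by norm_num) (few_of_two le_rfl fun r s hr hs hr2 hs2 hrd hsd => ?_)
  rcases H948.UMain.psu_three h hr hs hr2 hs2 hrd hsd with h | h | h | h | h
  · exact Or.inl (conn_of h)
  · exact Or.inr (Or.inl (conn_of h))
  · exact Or.inr (Or.inr (conn_of h))
  · exact absurd h h43
  · exact absurd h h62

end Cfsg.Agent.H493.PGRows
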