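import Cfsg.Agent.ChevalleyStructure.TwF4.Fix
import Cfsg.Agent.ChevalleyStructure.TwF4.BN
import Cfsg.Agent.ChevalleyStructure.TwF4.WeylDih
import Cfsg.Agent.ChevalleyStructure.TwF4.TorusFix
import Cfsg.Agent.S1054
import Cfsg.Agent.GpExc.Field

/-!
# The exceptional endomorphism of `F₄(K)`, `K` any field of characteristic 2

`gam K : chevF4.group K →* chevF4.group K` with `gam (x_r(t)) = x_{r̄}(t)` for long `r` and `x_{r̄}(t²)` for short `r`.
`ste K m = (entrywise 2^m-power) ∘ gam`. For `|K| = 2^(2m+1)` the elements of `chevF4.group K` fixed by `ste K m` are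
those of `twistedF4 K (2^m)`.
-/

set_option autoImplicit false
set_option linter.unusedSectionVars false

namespace Cfsg.Agent.H493.F4End

open Cfsg.Lie Cfsg.Agent.ChevalleyStructure.Elts Cfsg.Agent.ChevalleyStructure.TwF4.Bits
  Cfsg.Agent.ChevalleyStructure.TwF4.Tables Cfsg.Agent.ChevalleyStructure.TwF4.Fix
open Cfsg.Agent.ChevalleyStructure.TwF4.Rel hiding cm
open Cfsg.Agent.ChevalleyStructure.TwF4

theorem hD : InList chevF4 := Cfsg.Agent.ChevalleyStructure.F4Fixed.inList

universe u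

section

variable {K : Type u} [Field K] [CharP K 2]

theorem X_eq (r : ℕ) (t : K) : (X r t : GL chevF4.Idx K) = xG hD r t := Units.ext rfl

theorem X_mem (r : ℕ) (t : K) : (X r t : GL chevF4.Idx K) ∈ chevF4.group K := by
  rw [X_eq]; exact xG_mem_group hD r t

/-- elements preserving the ideal together with their inverse -/
def PB (K : Type*) [Field K] : Subgroup (GL chevF4.Idx K) where
  carrier := {g | Blk (g : Matrix chevF4.Idx chevF4.Idx K) ∧
    Blk ((g⁻¹ : GL chevF4.Idx K) : Matrix chevF4.Idx chevF4.Idx K)}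
  mul_mem' := by
    rintro a b ⟨h1, h2⟩ ⟨h3, h4⟩
    refine ⟨by rw [Units.val_mul]; exact Blk_mul h1 h3, ?_⟩
    rw [mul_inv_rev, Units.val_mul]
    exact Blk_mul h4 h2
  one_mem' := by
    refine ⟨?_, ?_⟩
    · rw [Units.val_one]; exact Blk_one
    · rw [inv_one, Units.val_one]; exact Blk_one
  inv_mem' := by
    rintro a ⟨h1, h2⟩
    exact ⟨h2, by rw [inv_inv]; exact h1⟩

theorem group_le_PB : chevF4.group K ≤ PB K := by
  rw [group_le_iff hD]
  intro r _ t
  rw [← X_eq]
  refine ⟨x_Blk r t, ?_⟩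
  rw [X_inv]
  exact x_Blk r t

/-- the action on the ideal -/
noncomputable def iA (K : Type*) [Field K] [CharP K 2] : ↥(chevF4.group K) →* GL (Fin 26) K where
  toFun g :=
    { val := Amat (g : GL chevF4.Idx K)
      inv := Amat ((g : GL chevF4.Idx K)⁻¹ : GL chevF4.Idx K)
      val_inv := by
        rw [← Amat_mul (group_le_PB g.2).2, ← Units.val_mul, mul_inv_cancel, Units.val_one, Amat_one]
      inv_val := by
        rw [← Amat_mul (group_le_PB g.2).1, ← Units.val_mul, inv_mul_cancel, Units.val_one, Amat_one] }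
  map_one' := Units.ext Amat_one
  map_mul' g h := Units.ext (Amat_mul (group_le_PB h.2).1)

/-- the action on the quotient -/
noncomputable def iC (K : Type*) [Field K] [CharP K 2] : ↥(chevF4.group K) →* GL (Fin 26) K where
  toFun g :=
    { val := Cmat (g : GL chevF4.Idx K)
      inv := Cmat ((g : GL chevF4.Idx K)⁻¹ : GL chevF4.Idx K)
      val_inv := by
        rw [← Cmat_mul (group_le_PB g.2).1, ← Units.val_mul, mul_inv_cancel, Units.val_one, Cmat_one]
      inv_val := by
        rw [← Cmat_mul (group_le_PB g.2).2, ← Units.val_mul, inv_mul_cancel, Units.val_one, Cmat_one] }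
  map_one' := Units.ext Cmat_one
  map_mul' g h := Units.ext (Cmat_mul (group_le_PB g.2).1)

theorem coe_iA (g : ↥(chevF4.group K)) : ((iA K g : GL (Fin 26) K) : Matrix (Fin 26) (Fin 26) K) =
    Amat (g : GL chevF4.Idx K) := rfl

theorem coe_iC (g : ↥(chevF4.group K)) : ((iC K g : GL (Fin 26) K) : Matrix (Fin 26) (Fin 26) K) =
    Cmat (g : GL chevF4.Idx K) := rfl

theorem exists_bit : ∃ i j : Fin 26, i ≠ j ∧ (PE 33).testBit (52 * nthN ioN i + nthN ioN j) = true ∧
    (PF 33).testBit (52 * nthN ioN i + nthN ioN j) = false := by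
  decide +kernel

theorem Amat_x33 : Amat (chevF4.x K 33 1) ≠ 1 := by
  intro h
  obtain ⟨i, j, hij, h1, h2⟩ := exists_bit
  have h3 := congrFun (congrFun h i) j
  rw [Amat_apply, x_entry 33 (by norm_num), pos_io, pos_io, h1, h2, Matrix.one_apply, if_neg hij,
    if_neg (fun e => hij (io_inj e))] at h3
  simp at h3

theorem iA_injective : Function.Injective (iA K) := by
  have hs : IsSimpleGroup ↥(chevF4.group K) := (Cfsg.Agent.S1054.result chevF4 (by simp)).1
  rw [← MonoidHom.ker_eq_bot_iff]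
  rcases hs.eq_bot_or_eq_top_of_normal (iA K).ker inferInstance with h | h
  · exact h
  · exfalso
    have h1 : (⟨X 33 1, X_mem 33 1⟩ : ↥(chevF4.group K)) ∈ (iA K).ker := by rw [h]; trivial
    rw [MonoidHom.mem_ker] at h1
    exact Amat_x33 (congrArg Units.val h1)

/-- root elements in the group -/
def xg (r : ℕ) (t : K) : ↥(chevF4.group K) := ⟨X r t, X_mem r t⟩

theorem iC_xg {r : ℕ} (hr : r < 48) (t : K) : iC K (xg r t) = iA K (xg (bar r) (lam r t)) :=
  Units.ext (Cmat_x r hr t)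

theorem closure_xg : Subgroup.closure {g : ↥(chevF4.group K) | ∃ r < 48, ∃ t : K, g = xg r t} = ⊤ := by
  rw [eq_top_iff]
  rintro ⟨g, hg⟩ -
  have h : chevF4.group K ≤ (Subgroup.closure {g : ↥(chevF4.group K) | ∃ r < 48, ∃ t : K, g = xg r t}).map
      (chevF4.group K).subtype := by
    rw [group_le_iff hD]
    intro r hr t
    refine ⟨xg r t, Subgroup.subset_closure ⟨r, hr, t, rfl⟩, ?_⟩
    exact X_eq r t
  obtain ⟨x, hx, e⟩ := h hg
  have e' : x = ⟨g, hg⟩ := Subtype.ext e
  rwa [← e']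

theorem iC_mem (g : ↥(chevF4.group K)) : iC K g ∈ (iA K).range := by
  have h : (⊤ : Subgroup ↥(chevF4.group K)) ≤ (iA K).range.comap (iC K) := by
    rw [← closure_xg, Subgroup.closure_le]
    rintro _ ⟨r, hr, t, rfl⟩
    exact ⟨xg (bar r) (lam r t), (iC_xg hr t).symm⟩
  exact h (Subgroup.mem_top g)

/-- **The exceptional endomorphism.** -/
noncomputable def gam (K : Type*) [Field K] [CharP K 2] : ↥(chevF4.group K) →* ↥(chevF4.group K) :=
  (MonoidHom.ofInjective (iA_injective (K := K))).symm.toMonoidHom.comp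
    ((iC K).codRestrict (iA K).range iC_mem)

theorem iA_gam (g : ↥(chevF4.group K)) : iA K (gam K g) = iC K g := by
  have h := (MonoidHom.ofInjective (iA_injective (K := K))).apply_symm_apply
    (((iC K).codRestrict (iA K).range iC_mem) g)
  exact congrArg Subtype.val h

theorem gam_xg {r : ℕ} (hr : r < 48) (t : K) : gam K (xg r t) = xg (bar r) (lam r t) := by
  apply iA_injective
  rw [iA_gam, iC_xg hr]

/-! ### the Steinberg endomorphisms -/

/-- **The Steinberg endomorphism**: the exceptional endomorphism followed by the `2^m`-power map. -/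
noncomputable def ste (K : Type u) [Field K] [CharP K 2] (m : ℕ) : ↥(chevF4.group K) →* ↥(chevF4.group K) :=
  (Cfsg.Agent.GpExc.Field.emb hD (iterateFrobenius K 2 m)).comp (gam K)

/-- the parameter -/
def lm (m r : ℕ) (t : K) : K := lam r t ^ 2 ^ m

theorem emb_xg (f : K →+* K) (r : ℕ) (t : K) : Cfsg.Agent.GpExc.Field.emb hD f (xg r t) = xg r (f t) := by
  apply Subtype.ext
  show Cfsg.Agent.GpExc.Field.glMap chevF4 f (X r t) = X r (f t)
  rw [X_eq, X_eq, Cfsg.Agent.GpExc.Field.glMap_xG]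

theorem ste_xg (m : ℕ) {r : ℕ} (hr : r < 48) (t : K) : ste K m (xg r t) = xg (bar r) (lm m r t) := by
  show Cfsg.Agent.GpExc.Field.emb hD (iterateFrobenius K 2 m) (gam K (xg r t)) = _
  rw [gam_xg hr, emb_xg, iterateFrobenius_def]
  rfl

theorem bar_bar {r : ℕ} (hr : r < 48) : bar (bar r) = r := by
  have h := bar_facts
  rw [List.all_eq_true] at h
  have h1 := h r (List.mem_range.2 hr)
  simp only [Bool.and_eq_true, decide_eq_true_eq] at h1
  exact h1.1.1.1.1.1.1.2

theorem bar_neg : ∀ r < 48, bar (47 - r) = 47 - bar r ∧ isLong (47 - r) = isLong r := by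
  have h : ((List.range 48).all fun r => decide (bar (47 - r) = 47 - bar r) && (isLong (47 - r) == isLong r)) = true := by
    decide +kernel
  intro r hr
  rw [List.all_eq_true] at h
  have h1 := h r (List.mem_range.2 hr)
  simp only [Bool.and_eq_true, decide_eq_true_eq, beq_iff_eq] at h1
  exact h1

theorem neg_eq : ∀ r < 48, chevF4.neg r = 47 - r := by
  have h : ((List.range 48).all fun r => decide (chevF4.neg r = 47 - r)) = true := by decide +kernel
  intro r hr
  rw [List.all_eq_true] at h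
  exact of_decide_eq_true (h r (List.mem_range.2 hr))

theorem lm_mul (m r : ℕ) (s t : K) : lm m r (s * t) = lm m r s * lm m r t := by
  unfold lm lam
  split_ifs
  · rw [mul_pow]
  · rw [mul_pow, mul_pow]

theorem lm_one (m r : ℕ) : lm m r (1 : K) = 1 := by
  unfold lm lam
  split_ifs
  · rw [one_pow]
  · rw [one_pow, one_pow]

theorem lm_inv (m r : ℕ) (t : K) : lm m r t⁻¹ = (lm m r t)⁻¹ := by
  unfold lm lam
  split_ifs
  · rw [inv_pow]
  · rw [inv_pow, inv_pow]

theorem lm_ne {m r : ℕ} {t : K} (ht : t ≠ 0) : lm m r t ≠ 0 := by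
  intro h0
  have h1 := lm_mul m r t t⁻¹
  rw [mul_inv_cancel₀ ht, lm_one, h0, zero_mul] at h1
  exact one_ne_zero h1

/-- `lm` is the power with this exponent -/
def ex (m r : ℕ) : ℕ := (if isLong r then 1 else 2) * 2 ^ m

theorem lm_eq (m r : ℕ) (t : K) : lm m r t = t ^ ex m r := by
  unfold lm lam ex
  split_ifs
  · rw [one_mul]
  · rw [← pow_mul]

theorem ex_bar {m r : ℕ} (hr : r < 48) : ex m r * ex m (bar r) = 2 ^ (2 * m + 1) := by
  unfold ex
  rw [isLong_bar r hr]
  cases isLong r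
  · simp only [Bool.not_false, if_true, Bool.false_eq_true, if_false]
    ring
  · simp only [Bool.not_true, if_true, Bool.false_eq_true, if_false]
    ring

theorem ste_ste_xg (m : ℕ) {r : ℕ} (hr : r < 48) (t : K) :
    ste K m (ste K m (xg r t)) = xg r (t ^ 2 ^ (2 * m + 1)) := by
  rw [ste_xg m hr, ste_xg m (bar_lt r hr), bar_bar hr, lm_eq, lm_eq, ← pow_mul, ex_bar hr]

theorem ste_ste (m : ℕ) (g : ↥(chevF4.group K)) :
    ste K m (ste K m g) = Cfsg.Agent.GpExc.Field.emb hD (iterateFrobenius K 2 (2 * m + 1)) g := by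
  have h : (ste K m).comp (ste K m) = Cfsg.Agent.GpExc.Field.emb hD (iterateFrobenius K 2 (2 * m + 1)) := by
    refine MonoidHom.eq_of_eqOn_dense closure_xg ?_
    rintro _ ⟨r, hr, t, rfl⟩
    show ste K m (ste K m (xg r t)) = _
    rw [ste_ste_xg m hr, emb_xg, iterateFrobenius_def]
  exact DFunLike.congr_fun h g

/-! ### the standard subgroups -/

theorem ste_mem {S S' : Subgroup (GL chevF4.Idx K)} {m : ℕ}
    (h : S ≤ ((S'.comap (chevF4.group K).subtype).comap (ste K m)).map (chevF4.group K).subtype)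
    {g : ↥(chevF4.group K)} (hg : (g : GL chevF4.Idx K) ∈ S) : (ste K m g : GL chevF4.Idx K) ∈ S' := by
  obtain ⟨x, hx, e⟩ := h hg
  have e' : x = g := Subtype.ext e
  subst e'
  exact hx

theorem ste_pos (m : ℕ) {g : ↥(chevF4.group K)} (hg : (g : GL chevF4.Idx K) ∈ chevF4.posUnipotent K) :
    (ste K m g : GL chevF4.Idx K) ∈ chevF4.posUnipotent K := by
  refine ste_mem ?_ hg
  rw [posUnipotent_le_iff hD]
  intro r hr t
  obtain ⟨hr1, hr2⟩ := (Groups.isPosRoot_iff r).1 hr
  refine ⟨xg r t, ?_, X_eq r t⟩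
  show (ste K m (xg r t) : GL chevF4.Idx K) ∈ chevF4.posUnipotent K
  rw [ste_xg m hr1]
  show X (bar r) (lm m r t) ∈ chevF4.posUnipotent K
  rw [X_eq]
  exact xG_mem_posUnipotent hD ((Groups.isPosRoot_iff _).2 ⟨bar_lt r hr1, (pos_bar r hr1).2 hr2⟩) _

theorem ste_neg (m : ℕ) {g : ↥(chevF4.group K)} (hg : (g : GL chevF4.Idx K) ∈ chevF4.negUnipotent K) :
    (ste K m g : GL chevF4.Idx K) ∈ chevF4.negUnipotent K := by
  refine ste_mem ?_ hg
  rw [negUnipotent_le_iff hD]
  intro r hr t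
  have hr1 := (Groups.isNegRoot_iff r).1 hr
  have hr2 : r < 48 := by omega
  refine ⟨xg r t, ?_, X_eq r t⟩
  show (ste K m (xg r t) : GL chevF4.Idx K) ∈ chevF4.negUnipotent K
  rw [ste_xg m hr2]
  show X (bar r) (lm m r t) ∈ chevF4.negUnipotent K
  rw [X_eq]
  refine xG_mem_negUnipotent hD ((Groups.isNegRoot_iff _).2 ?_) _
  have := (pos_bar r hr2).not
  omega

/-- `n_r(t)` -/
noncomputable def ng (r : ℕ) (t : K) : ↥(chevF4.group K) := xg r t * (xg (47 - r) (-t⁻¹) * xg r t)

theorem coe_ng {r : ℕ} (hr : r < 48) (t : K) :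
    ((ng r t : ↥(chevF4.group K)) : GL chevF4.Idx K) = Cfsg.Agent.ChevalleyStructure.Elts.nG hD r t := by
  rw [nG_def, neg_eq r hr, ← X_eq, ← X_eq]
  rfl

theorem lm_neg (m r : ℕ) (t : K) : lm m r (-t) = - lm m r t := by
  rw [CharTwo.neg_eq, CharTwo.neg_eq]

theorem ste_ng (m : ℕ) {r : ℕ} (hr : r < 48) (t : K) : ste K m (ng r t) = ng (bar r) (lm m r t) := by
  have h47 : 47 - r < 48 := by omega
  unfold ng
  rw [map_mul, map_mul, ste_xg m hr, ste_xg m h47, (bar_neg r hr).1, lm_neg, lm_inv]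
  have e : ∀ s : K, lm m (47 - r) s = lm m r s := fun s => by
    unfold lm lam
    rw [(bar_neg r hr).2]
  rw [e]

/-- `h_r(t)` -/
noncomputable def hg (r : ℕ) (t : K) : ↥(chevF4.group K) := ng r t * ng r (-1)

theorem coe_hg {r : ℕ} (hr : r < 48) (t : K) :
    ((hg r t : ↥(chevF4.group K)) : GL chevF4.Idx K) = Cfsg.Agent.ChevalleyStructure.Elts.hG hD r t := by
  rw [hG_def, ← coe_ng hr, ← coe_ng hr]
  rfl

theorem ste_hg (m : ℕ) {r : ℕ} (hr : r < 48) (t : K) : ste K m (hg r t) = hg (bar r) (lm m r t) := by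
  unfold hg
  rw [map_mul, ste_ng m hr, ste_ng m hr, lm_neg, lm_one]

theorem ste_diag (m : ℕ) {g : ↥(chevF4.group K)} (hg' : (g : GL chevF4.Idx K) ∈ chevF4.diagonalSubgroup K) :
    (ste K m g : GL chevF4.Idx K) ∈ chevF4.diagonalSubgroup K := by
  refine ste_mem ?_ hg'
  rw [diagonal_le_iff hD]
  intro r hr t ht
  refine ⟨hg r t, ?_, coe_hg hr t⟩
  show (ste K m (hg r t) : GL chevF4.Idx K) ∈ chevF4.diagonalSubgroup K
  rw [ste_hg m hr, coe_hg (bar_lt r hr)]
  exact hG_mem_diagonal hD (bar_lt r hr) (lm_ne ht)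

theorem ste_mono (m : ℕ) {g : ↥(chevF4.group K)} (hg' : (g : GL chevF4.Idx K) ∈ chevF4.monomialSubgroup K) :
    (ste K m g : GL chevF4.Idx K) ∈ chevF4.monomialSubgroup K := by
  refine ste_mem ?_ hg'
  rw [monomial_le_iff hD]
  refine ⟨fun r hr t ht => ⟨hg r t, ?_, coe_hg hr t⟩, fun r hr => ⟨ng r 1, ?_, coe_ng hr 1⟩⟩
  · show (ste K m (hg r t) : GL chevF4.Idx K) ∈ chevF4.monomialSubgroup K
    rw [ste_hg m hr, coe_hg (bar_lt r hr)]
    exact diagonal_le_monomial _ _ (hG_mem_diagonal hD (bar_lt r hr) (lm_ne ht))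
  · show (ste K m (ng r 1) : GL chevF4.Idx K) ∈ chevF4.monomialSubgroup K
    rw [ste_ng m hr, lm_one, coe_ng (bar_lt r hr)]
    exact nG_one_mem_monomial hD (bar_lt r hr)

end

end Cfsg.Agent.H493.F4End
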