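import Cfsg.Agent.H493.PGRows2
import Cfsg.Agent.H493.PGRows3
import Cfsg.Agent.H388.EvenFixAll
import Cfsg.Agent.S0204
import Cfsg.Agent.S0205

/-!
# The prime graph of a finite group has at most six components

`few_known` : `Few 7` for every known nonabelian simple group; `few_of` : for all finite groups, given the
classification (S0000) and the almost simple theorem (S4008).
-/

set_option autoImplicit false

namespace Cfsg.Agent.H493.PGMain

open Cfsg.Agent.H493.PG Cfsg.Agent.H493.PGRows
open Cfsg.Agent

universe u

/-- known simple groups -/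
theorem few_known {K : Type*} [Group K] [Finite K] (hna : ¬ IsMulCommutative K) (h : Cfsg.IsKnownSimple' K) :
    Few 7 K := by
  rcases h with h | h | h | h | h | h | h | h | h | h
  · exfalso
    have h' : (Nat.card K).Prime := h
    have := Fact.mk h'
    have hcyc : IsCyclic K := isCyclic_of_prime_card (p := Nat.card K) rfl
    exact hna inferInstance
  · exact (few_alternating h).mono (by norm_num)
  · exact (few_psl h).mono (by norm_num)
  · exact (few_psp h).mono (by norm_num)
  · exact (few_psu h).mono (by norm_num)
  · exact (few_omegaOdd h).mono (by norm_num)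
  · exact (few_omegaPlus h).mono (by norm_num)
  · exact (few_omegaMinus h).mono (by norm_num)
  · exact (few_exceptional h).mono (by norm_num)
  · exact few_sporadic h le_rfl

/-- **at most six components**, given the classification and the almost simple theorem -/
theorem few_of (h0 : ∀ (K : Type u) [Group K] [Finite K] [IsSimpleGroup K], Cfsg.IsKnownSimple' K)
    (has : ∀ (G : Type u) [Group G] [Finite G] (_ : ¬ Group.IsSolvable G) (_ : Even (Nat.card G))
      (r : ℕ) (_ : r.Prime) (_ : r ≠ 2) (_ : r ∣ Nat.card G) (_ : ∀ g : G, orderOf g ≠ 2 * r)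
      (R : Subgroup G) [R.Normal] (_ : Group.IsSolvable ↥R)
      (_ : ∀ N : Subgroup G, N.Normal → Group.IsSolvable ↥N → N ≤ R),
      ∃ S : Subgroup (G ⧸ R), S.Normal ∧ IsSimpleGroup ↥S ∧ ¬ IsMulCommutative ↥S ∧
        Subgroup.centralizer (S : Set (G ⧸ R)) = ⊥)
    (G : Type u) [Group G] [Finite G] : Few 7 G := by
  refine few_of_simple 7 (by norm_num) (fun K _ _ hK => S0205.result (Nat.not_even_iff_odd.1 hK)) ?_ ?_ has ?_ G
  · intro K _ _ _ hna
    exact S0204.result fun hc => hna inferInstance
  · intro K _ _ _ hna r hr hr2 hcop x hx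
    exact H388.EvenFixAll.exists_involution hna (h0 K) hr hr2 hcop x hx
  · intro K _ _ _ hna
    exact few_known hna (h0 K)

end Cfsg.Agent.H493.PGMain
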